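import Groth.Agent.Pi1A.QfUnramAlg
import Groth.Agent.UnramA.FlatUnramAt
import Groth.Agent.UnramB.UnramNormal
import Groth.Agent.Desc.NormalSmooth
import Groth.Agent.Desc.RegAt
import Groth.Agent.S0248
import Groth.Agent.S0564
import Groth.Agent.S1996
import Groth.Agent.CurvesC.RegNormal

/-!
# Purity of the branch locus, ring level (Stacks 0BMB)
-/

set_option autoImplicit false

universe u

open TensorProduct

namespace Groth.Agent.Hensel.BranchPurity

open Groth.Agent.Pi1A.QfUnramAlg Groth.Agent.UnramB.UnramNormal
open Groth.Agent.Desc.NormalSmooth Groth.Agent.Desc.RegAt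

/-- A quasi-finite algebra over a domain of finite dimension, whose dimension is at least the
dimension of the base, has injective structure map. -/
theorem injective_of_ringKrullDim_le {A B : Type*} [CommRing A] [IsDomain A] [CommRing B]
    [Algebra A B] [Algebra.QuasiFinite A B] (n : ℕ) (hA : ringKrullDim A ≤ (n : WithBot ℕ∞))
    (hB : (n : WithBot ℕ∞) ≤ ringKrullDim B) : Function.Injective (algebraMap A B) := by
  rw [injective_iff_map_eq_zero]
  intro a ha
  by_contra hne
  let I := RingHom.ker (algebraMap A B)
  let _ : Algebra (A ⧸ I) B := (Ideal.Quotient.lift I (algebraMap A B) (fun _ h => h)).toAlgebra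
  have _ : IsScalarTower A (A ⧸ I) B := .of_algebraMap_eq fun _ => rfl
  have : Algebra.QuasiFinite (A ⧸ I) B := Algebra.QuasiFinite.of_restrictScalars A _ _
  have h1 : ringKrullDim B ≤ ringKrullDim (A ⧸ I) := ringKrullDim_le_of_quasiFinite _ _
  have h2 := ringKrullDim_succ_le_of_surjective (Ideal.Quotient.mk I) Ideal.Quotient.mk_surjective
    (mem_nonZeroDivisors_of_ne_zero hne) (Ideal.Quotient.eq_zero_iff_mem.mpr ha)
  have h4 : ((n : WithBot ℕ∞)) + 1 ≤ n :=
    (add_le_add_left (hB.trans h1) 1).trans (h2.trans hA)
  have h5 : ((n + 1 : ℕ) : WithBot ℕ∞) ≤ ((n : ℕ) : WithBot ℕ∞) := by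
    push_cast
    exact h4
  rw [Nat.cast_le] at h5
  omega

/-- A regular local ring of dimension at most one is a principal ideal domain. -/
theorem isPrincipalIdealRing_of_dim_le_one {A : Type*} [CommRing A] [IsRegularLocalRing A]
    (h : ringKrullDim A ≤ 1) : IsPrincipalIdealRing A := by
  have hdA : IsDomain A := CalgA.RegBasic.isDomain A
  have h1 := (IsRegularLocalRing.iff_finrank_cotangentSpace A).mp ‹_›
  have h2 : Module.finrank (IsLocalRing.ResidueField A) (IsLocalRing.CotangentSpace A) ≤ 1 := by
    rw [← h1] at h
    exact_mod_cast h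
  exact ((tfae_of_isNoetherianRing_of_isLocalRing_of_isDomain A).out 5 0).mp h2

/-- Torsion-free implies flat over a regular local ring of dimension at most one. -/
theorem flat_of_dim_le_one {A B : Type*} [CommRing A] [IsRegularLocalRing A] [CommRing B]
    [IsDomain B] [Algebra A B] (h : ringKrullDim A ≤ 1)
    (hinj : Function.Injective (algebraMap A B)) : Module.Flat A B := by
  have hdA : IsDomain A := CalgA.RegBasic.isDomain A
  have := isPrincipalIdealRing_of_dim_le_one h
  rw [Module.Flat.flat_iff_torsion_eq_bot_of_isBezout, eq_bot_iff]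
  rintro b ⟨⟨a, ha⟩, hab⟩
  have h1 : algebraMap A B a * b = 0 := by
    rw [← Algebra.smul_def]
    exact hab
  rcases mul_eq_zero.mp h1 with h2 | h2
  · rw [← map_zero (algebraMap A B)] at h2
    exact (nonZeroDivisors.ne_zero ha (hinj h2)).elim
  · exact h2

/-- Regularity passes to generizations. -/
theorem regAt_of_le {R : Type u} [CommRing R] {p p' : Ideal R} [p.IsPrime] [p'.IsPrime]
    (hle : p' ≤ p) (h : RegAt R p) : RegAt R p' := by
  have : IsRegularLocalRing (Localization.AtPrime p) := h
  have hdisj : Disjoint (p.primeCompl : Set R) (p' : Set R) :=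
    Set.disjoint_left.mpr fun x hx hx' => hx (hle hx')
  have hprime := IsLocalization.isPrime_of_isPrime_disjoint p.primeCompl
    (Localization.AtPrime p) p' ‹_› hdisj
  have hunder := IsLocalization.under_map_of_isPrime_disjoint p.primeCompl
    (Localization.AtPrime p) ‹p'.IsPrime› hdisj
  rw [← regAt_iff_of_isLocalization p.primeCompl
    (p'.map (algebraMap R (Localization.AtPrime p))) p' hunder]
  exact S0564.result (Localization.AtPrime p) _

/-- Normality passes to generizations. -/
theorem normalAt_of_le {R : Type u} [CommRing R] {p p' : Ideal R} [p.IsPrime] [p'.IsPrime]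
    (hle : p' ≤ p) (h : NormalAt R p) : NormalAt R p' := by
  have := h.1
  have := h.2
  have hdisj : Disjoint (p.primeCompl : Set R) (p' : Set R) :=
    Set.disjoint_left.mpr fun x hx hx' => hx (hle hx')
  have hprime := IsLocalization.isPrime_of_isPrime_disjoint p.primeCompl
    (Localization.AtPrime p) p' ‹_› hdisj
  have hunder := IsLocalization.under_map_of_isPrime_disjoint p.primeCompl
    (Localization.AtPrime p) ‹p'.IsPrime› hdisj
  rw [← normalAt_iff_of_isLocalization p.primeCompl
    (p'.map (algebraMap R (Localization.AtPrime p))) p' hunder]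
  let p1 := p'.map (algebraMap R (Localization.AtPrime p))
  exact ⟨IsLocalization.isDomain_localization (Ideal.primeCompl_le_nonZeroDivisors p1),
    isIntegrallyClosed_of_isLocalization (Localization.AtPrime p1) p1.primeCompl
      (Ideal.primeCompl_le_nonZeroDivisors p1)⟩

/-- Flatness at a prime descends along flat algebras having a prime over the given one. -/
theorem flat_atPrime {R S C : Type u} [CommRing R] [CommRing S] [CommRing C] [Algebra R S]
    [Algebra R C] [Algebra S C] [IsScalarTower R S C] [Module.Flat S C] [Module.Flat R C]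
    (q : Ideal S) [q.IsPrime] (M : Ideal C) [M.IsPrime] [M.LiesOver q] :
    Module.Flat R (Localization.AtPrime q) := by
  let := Localization.AtPrime.algebraOfLiesOver q M
  have h8 : Module.Flat R (Localization.AtPrime M) := Module.Flat.trans R C _
  have h9 : Module.Flat (Localization.AtPrime q) (Localization.AtPrime M) := inferInstance
  have h10 : Module.FaithfullyFlat (Localization.AtPrime q) (Localization.AtPrime M) :=
    Module.FaithfullyFlat.of_flat_of_isLocalHom
  exact S1996.flat_of_faithfullyFlat_comp R (Localization.AtPrime q) (Localization.AtPrime M)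

attribute [local instance] Algebra.TensorProduct.rightAlgebra in
/-- The purity theorem for quasi-finite algebras, with unramifiedness in codimension at most
one. -/
theorem isEtaleAt_aux {R S : Type u} [CommRing R] [CommRing S] [Algebra R S] [IsNoetherianRing R]
    [Algebra.FiniteType R S] (n : ℕ) : ∀ (q : Ideal S) [q.IsPrime] [Algebra.QuasiFiniteAt R q]
    (_ : RegAt R (q.under R)) (_ : NormalAt S q) (_ : (q.under R).height = n) (_ : q.height = n)
    (_ : ∀ (q' : Ideal S) [q'.IsPrime], q' ≤ q → q'.height ≤ 1 → Algebra.IsUnramifiedAt R q'),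
    Algebra.IsEtaleAt R q := by
  have hS : IsNoetherianRing S := Algebra.FiniteType.isNoetherianRing R S
  have hfpS : Algebra.FinitePresentation R S :=
    Algebra.FinitePresentation.of_finiteType.mp inferInstance
  induction n using Nat.strong_induction_on with
  | _ n ih =>
  intro q _ _ hreg hnor hp hq hunr
  by_cases hn : n ≤ 1
  · have hu : Algebra.IsUnramifiedAt R q := hunr q le_rfl (by rw [hq]; exact_mod_cast hn)
    refine UnramA.FlatUnramAt.isEtaleAt_of_isUnramifiedAt_of_flat q ?_
    let p := q.under R
    have : q.LiesOver p := ⟨rfl⟩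
    let := Localization.AtPrime.algebraOfLiesOver p q
    have : IsRegularLocalRing (Localization.AtPrime p) := hreg
    have := CalgA.RegBasic.isDomain (Localization.AtPrime p)
    have := hnor.1
    have hd : ringKrullDim (Localization.AtPrime p) = n := by
      rw [IsLocalization.AtPrime.ringKrullDim_eq_height p, hp]
      rfl
    have hd' : ringKrullDim (Localization.AtPrime q) = n := by
      rw [IsLocalization.AtPrime.ringKrullDim_eq_height q, hq]
      rfl
    have : Algebra.QuasiFinite R (Localization.AtPrime q) := ‹Algebra.QuasiFiniteAt R q›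
    have : Algebra.QuasiFinite (Localization.AtPrime p) (Localization.AtPrime q) :=
      .of_restrictScalars R _ _
    rw [← Module.flat_iff_of_isLocalization (Localization.AtPrime p) p.primeCompl]
    exact flat_of_dim_le_one (by rw [hd]; exact_mod_cast hn)
      (injective_of_ringKrullDim_le n hd.le hd'.ge)
  -- etale localization
  obtain ⟨R', _, _, _, P, _, _, e, he, P', _, _, hP'q, heP', hres, hfin, huniq⟩ :=
    Algebra.exists_etale_isIdempotentElem_forall_liesOver_eq (q.under R) q
  have hR' : IsNoetherianRing R' := Algebra.FiniteType.isNoetherianRing R R'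
  have hTe : Algebra.Etale S (R' ⊗[R] S) :=
    Algebra.Etale.of_equiv (Algebra.TensorProduct.commRight R S R')
  have hTf : Module.Flat S (R' ⊗[R] S) :=
    Module.Flat.of_linearEquiv (Algebra.TensorProduct.commRight R S R').symm.toLinearEquiv
  have hTq : Algebra.QuasiFinite S (R' ⊗[R] S) :=
    (Algebra.QuasiFinite.iff_of_algEquiv (Algebra.TensorProduct.commRight R S R')).mp
      inferInstance
  let C := Localization.Away e
  let Rl := Localization.AtPrime P
  let Cl := Localization (Algebra.algebraMapSubmonoid C P.primeCompl)
  have hCN : IsNoetherianRing C := IsNoetherianRing.of_finite R' C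
  have hRlN : IsNoetherianRing Rl := IsLocalization.isNoetherianRing P.primeCompl _ inferInstance
  have hfinl : Module.Finite Rl Cl := Module.Finite.of_isLocalization R' C P.primeCompl
  have hClN : IsNoetherianRing Cl := IsNoetherianRing.of_finite Rl Cl
  have hSCe : Algebra.Etale S C := .comp S (R' ⊗[R] S) C
  have hSC : Algebra.FormallyEtale S C := inferInstance
  have hSCl : Algebra.FormallyEtale S Cl := .comp S C Cl
  have hSCf : Module.Flat S C := Module.Flat.trans S (R' ⊗[R] S) C
  have hSClf : Module.Flat S Cl := Module.Flat.trans S C Cl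
  have hSCq : Algebra.QuasiFinite S Cl := inferInstance
  have hRC : IsScalarTower R S C := inferInstance
  have hRCl : IsScalarTower R S Cl := inferInstance
  have hRRl : IsScalarTower R Rl Cl := IsScalarTower.to₁₃₄ R R' Rl Cl
  -- maximal ideals of `Cl` contract to `P'`
  have hmax' : ∀ (M : Ideal Cl) [M.IsMaximal], M.under (R' ⊗[R] S) = P' := by
    intro M hM
    have hM1 : (M.under Rl).IsMaximal := Ideal.isMaximal_comap_of_isIntegral_of_isMaximal M
    have hM2 : M.under R' = P := by
      have h : (M.under Rl).under R' = P := by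
        rw [IsLocalRing.eq_maximalIdeal hM1]
        exact Localization.AtPrime.under_maximalIdeal (I := P)
      exact (Ideal.under_under (B := Rl) M).symm.trans h
    refine huniq _ inferInstance ⟨?_⟩ ?_
    · rw [Ideal.under_under, hM2]
    · intro he'
      have hu : IsUnit (algebraMap (R' ⊗[R] S) Cl e) := by
        rw [IsScalarTower.algebraMap_apply (R' ⊗[R] S) C Cl]
        exact (IsLocalization.Away.algebraMap_isUnit e).map _
      exact (inferInstance : M.IsPrime).ne_top (Ideal.eq_top_of_isUnit_mem M he' hu)
  have hmax : ∀ (M : Ideal Cl) [M.IsMaximal], M.under S = q := by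
    intro M hM
    rw [← hP'q, ← hmax' M, ← Ideal.under_under (B := R' ⊗[R] S) M]
    rfl
  have hinjP : ∀ (M N : Ideal Cl), M.under (R' ⊗[R] S) = N.under (R' ⊗[R] S) → M = N := by
    intro M N h
    have h1 : M.under C = N.under C := by
      rw [← IsLocalization.map_under (Submonoid.powers e) C (M.under C),
        ← IsLocalization.map_under (Submonoid.powers e) C (N.under C), Ideal.under_under,
        Ideal.under_under, h]
    rw [← IsLocalization.map_under (Algebra.algebraMapSubmonoid C P.primeCompl) Cl M,
      ← IsLocalization.map_under (Algebra.algebraMapSubmonoid C P.primeCompl) Cl N, h1]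
  -- there is a maximal ideal
  have hnt : Nontrivial Cl := by
    by_contra hsub
    rw [not_nontrivial_iff_subsingleton] at hsub
    have h0 : (0 : C) ∈ Algebra.algebraMapSubmonoid C P.primeCompl := by
      exact (IsLocalization.subsingleton_iff (S := Cl)).mp hsub
    obtain ⟨r, hr, hr0⟩ := h0
    have h2 : algebraMap (R' ⊗[R] S) C (algebraMap R' (R' ⊗[R] S) r) = 0 := by
      rw [← IsScalarTower.algebraMap_apply]
      exact hr0
    rw [IsLocalization.map_eq_zero_iff (Submonoid.powers e)] at h2
    obtain ⟨⟨_, n, rfl⟩, hn⟩ := h2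
    have h3 : e ^ n * algebraMap R' (R' ⊗[R] S) r ∈ P' := by
      simp only at hn
      rw [hn]
      exact zero_mem _
    rcases (inferInstance : P'.IsPrime).mem_or_mem h3 with h4 | h4
    · exact heP' ((inferInstance : P'.IsPrime).mem_of_pow_mem n h4)
    · refine hr ?_
      have h5 : P'.under R' = P := (P'.over_def P).symm
      have h6 : r ∈ P'.under R' := h4
      exact h5.le h6
  obtain ⟨M, hM⟩ := Ideal.exists_maximal Cl
  have hloc : IsLocalRing Cl := by
    refine IsLocalRing.of_unique_max_ideal ⟨M, hM, fun N hN => hinjP _ _ ?_⟩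
    have := hmax' M
    have : N.IsMaximal := hN
    rw [hmax' M, hmax' N]
  have hMq : M.under S = q := hmax M
  have hMlo : M.LiesOver q := ⟨hMq.symm⟩
  have hMmax : M = IsLocalRing.maximalIdeal Cl := IsLocalRing.eq_maximalIdeal hM
  -- `Cl` is a normal domain
  have hnorM : NormalAt Cl M := by
    rw [normalAt_iff_of_isLocalization (Algebra.algebraMapSubmonoid C P.primeCompl) M (M.under C)
      rfl]
    refine normalAt_of_etale (A := S) (M.under C) ?_
    have : (M.under C).under S = q := by rw [Ideal.under_under, hMq]
    convert hnor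
  have hunits : M.primeCompl ≤ IsUnit.submonoid Cl := by
    intro x hx
    rw [IsUnit.mem_submonoid_iff]
    by_contra h
    exact hx (hMmax ▸ (IsLocalRing.mem_maximalIdeal x).mpr h)
  let eM : Cl ≃ₐ[Cl] Localization.AtPrime M := IsLocalization.atUnits Cl M.primeCompl hunits
  have hdomM := hnorM.1
  have hicM := hnorM.2
  have hdom : IsDomain Cl := eM.toMulEquiv.isDomain _
  have hic : IsIntegrallyClosed Cl := IsIntegrallyClosed.of_equiv (R := Localization.AtPrime M) eM.symm.toRingEquiv
  -- `Rl` is regular
  have hPu : P.under R = q.under R := (P.over_def (q.under R)).symm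
  have hRlreg : IsRegularLocalRing Rl := by
    refine regAt_of_isSmoothAt (A := R) P ?_
    convert hreg
  have hRldom : IsDomain Rl := CalgA.RegBasic.isDomain Rl
  have hRlic : IsIntegrallyClosed Rl := CurvesC.RegNormal.isIntegrallyClosed Rl
  have hPn : P.height = n := by rw [height_eq_of_quasiFinite (q.under R) P, hp]
  have hMn : M.height = n := by rw [height_eq_of_quasiFinite q M, hq]
  have hdR : ringKrullDim Rl = n := by
    rw [IsLocalization.AtPrime.ringKrullDim_eq_height P, hPn]
    rfl
  have hdC : ringKrullDim Cl = n := by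
    rw [← IsLocalRing.maximalIdeal_height_eq_ringKrullDim, ← hMmax, hMn]
    rfl
  have hinj : Function.Injective (algebraMap Rl Cl) := injective_of_ringKrullDim_le n hdR.le hdC.ge
  have hfs : FaithfulSMul Rl Cl := (faithfulSMul_iff_algebraMap_injective _ _).mpr hinj
  have hgd : Algebra.HasGoingDown Rl Cl := inferInstance
  have hRRlq : Algebra.QuasiFinite R Rl := inferInstance
  have hRRlf : Module.Flat R Rl := Module.Flat.trans R R' Rl
  have hRRle : Algebra.FormallyEtale R Rl := .comp R R' Rl
  have hqfq : Algebra.QuasiFinite R (Localization.AtPrime q) := ‹Algebra.QuasiFiniteAt R q›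
  have het : Algebra.Etale Rl Cl := by
    refine S0248.result Rl Cl ?_ hinj ?_
    · rw [hdR]
      exact_mod_cast (by omega : 2 ≤ n)
    intro Q hQ hQm
    have hQM : Q < M := by
      refine lt_of_le_of_ne (hMmax ▸ IsLocalRing.le_maximalIdeal hQ.ne_top) ?_
      rintro rfl
      exact hQm (IsLocalRing.eq_maximalIdeal (Ideal.isMaximal_comap_of_isIntegral_of_isMaximal Q))
    have hQh : Q.height < M.height := Ideal.height_strict_mono_of_isPrime hQM
    obtain ⟨k, hk⟩ : ∃ k : ℕ, Q.height = k := ⟨Q.height.toNat, by
      rw [ENat.natCast_toNat]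
      exact (hQh.trans_le le_top).ne⟩
    have hkn : k < n := by
      rw [hk, hMn] at hQh
      exact_mod_cast hQh
    let q' := Q.under S
    have hQlo : Q.LiesOver q' := ⟨rfl⟩
    have hq'q : q' ≤ q := by
      rw [← hMq]
      exact Ideal.comap_mono hQM.le
    have h1 : q'.height = k := by rw [← height_eq_of_quasiFinite q' Q, hk]
    have hp' : (Q.under Rl).under R = q'.under R := by
      simp only [q', Ideal.under_under]
    have h2 : (q'.under R).height = k := by
      have : (Q.under Rl).LiesOver (q'.under R) := ⟨hp'.symm⟩
      rw [← height_eq_of_quasiFinite (q'.under R) (Q.under Rl),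
        ← height_eq_of_quasiFinite (Q.under Rl) Q, hk]
    have hqf' : Algebra.QuasiFiniteAt R q' := .of_le hq'q
    have hreg' : RegAt R (q'.under R) := regAt_of_le (Ideal.comap_mono hq'q) hreg
    have hnor' : NormalAt S q' := normalAt_of_le hq'q hnor
    have hE : Algebra.IsEtaleAt R q' := ih k hkn q' hreg' hnor' h2 h1
      (fun q'' _ hq'' h => hunr q'' (hq''.trans hq'q) h)
    let := Localization.AtPrime.algebraOfLiesOver q' Q
    have h3 : Algebra.FormallyEtale S (Localization.AtPrime Q) :=
      .comp S Cl (Localization.AtPrime Q)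
    have h4 : Algebra.FormallyEtale (Localization.AtPrime q') (Localization.AtPrime Q) :=
      .localization_base q'.primeCompl
    have h5 : Algebra.FormallyEtale R (Localization.AtPrime q') := hE
    have h6 : Algebra.FormallyEtale R (Localization.AtPrime Q) :=
      .comp R (Localization.AtPrime q') _
    exact Algebra.FormallyEtale.of_restrictScalars (R := R)
  have hu : Algebra.IsUnramifiedAt R q := by
    rw [isUnramifiedAt_iff_of_formallyEtale (R' := Rl) q M]
    infer_instance
  refine UnramA.FlatUnramAt.isEtaleAt_of_isUnramifiedAt_of_flat q ?_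
  have h7 : Module.Flat R Cl := Module.Flat.trans R Rl Cl
  exact flat_atPrime (C := Cl) q M

/-- **Purity of the branch locus, ring version** (Stacks 0BMB). -/
theorem isEtaleAt_of_height_one {R S : Type u} [CommRing R] [CommRing S] [Algebra R S]
    [IsNoetherianRing R] [Algebra.FiniteType R S] (q : Ideal S) [q.IsPrime]
    [Algebra.QuasiFiniteAt R q] (hreg : RegAt R (q.under R)) (hnor : NormalAt S q)
    (hht : (q.under R).height = q.height) (h1 : 1 ≤ q.height)
    (hunr : ∀ (q' : Ideal S) [q'.IsPrime], q' ≤ q → q'.height = 1 →
      Algebra.IsUnramifiedAt R q') :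
    Algebra.IsEtaleAt R q := by
  have hS : IsNoetherianRing S := Algebra.FiniteType.isNoetherianRing R S
  obtain ⟨n, hn⟩ : ∃ n : ℕ, q.height = n := ⟨q.height.toNat, by
    rw [ENat.natCast_toNat]
    exact Ideal.height_ne_top (Ideal.IsPrime.ne_top ‹_›)⟩
  refine isEtaleAt_aux n q hreg hnor (hht.trans hn) hn fun q' _ hq' h => ?_
  by_cases h0 : q'.height = 1
  · exact hunr q' hq' h0
  have h0' : q'.height = 0 := by
    have := lt_of_le_of_ne h h0
    exact Order.lt_one_iff.mp this
  let L := Localization.AtPrime q
  have := hnor.1
  have hLN : IsNoetherianRing L := IsLocalization.isNoetherianRing q.primeCompl _ inferInstance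
  have hdL : (1 : WithBot ℕ∞) ≤ ringKrullDim L := by
    rw [IsLocalization.AtPrime.ringKrullDim_eq_height q]
    exact_mod_cast h1
  obtain ⟨Q, hQ, -, hQ1⟩ := S0249.result L hdL 0 (zero_mem _)
  have hQq : Q.under S ≤ q := by
    have := IsLocalRing.le_maximalIdeal hQ.ne_top
    exact (Ideal.comap_mono this).trans_eq (Localization.AtPrime.under_maximalIdeal (I := q))
  have hQh : (Q.under S).height = 1 := by
    rw [IsLocalization.height_under q.primeCompl, hQ1]
  have hu := hunr (Q.under S) hQq hQh
  have hdisj : Disjoint (q.primeCompl : Set S) (q' : Set S) :=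
    Set.disjoint_left.mpr fun x hx hx' => hx (hq' hx')
  have hprime := IsLocalization.isPrime_of_isPrime_disjoint q.primeCompl
    (Localization.AtPrime q) q' ‹_› hdisj
  have hunder := IsLocalization.under_map_of_isPrime_disjoint q.primeCompl
    (Localization.AtPrime q) ‹q'.IsPrime› hdisj
  have hle : q' ≤ Q.under S := by
    have h2 : q'.map (algebraMap S L) = ⊥ := by
      have h3 : (q'.map (algebraMap S L)).height = 0 := by
        rw [← IsLocalization.height_under q.primeCompl, hunder, h0']
      by_contra hne
      have h4 : (⊥ : Ideal L).height < (q'.map (algebraMap S L)).height :=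
        Ideal.height_strict_mono_of_isPrime (bot_lt_iff_ne_bot.mpr hne)
      rw [h3] at h4
      exact not_lt_bot h4
    rw [← hunder, h2]
    exact Ideal.comap_mono bot_le
  exact Algebra.isOpen_unramifiedLocus.stableUnderGeneralization
    (x := (⟨Q.under S, inferInstance⟩ : PrimeSpectrum S)) (y := ⟨q', inferInstance⟩)
    ((PrimeSpectrum.le_iff_specializes _ _).mp hle) hu

end Groth.Agent.Hensel.BranchPurity
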