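import Groth.Agent.S1722
import Groth.Agent.LoccohA.DExtDepth
import Groth.Agent.LoccohA.DExtFin
import Groth.Agent.LoccohB.DBase3
import Groth.Agent.LoccohB.DualShift
import Groth.Agent.Localalg.Depth2
import Groth.Agent.Pi1C.DimFun

/-!
# Dualizing complexes: the dimension function, depth and dimension through `Hom_{D(A)}(M, ω[i])`

* `exists_delta` : the dimension function of a dualizing complex, in the form used by `LoccohA.DExt*`.
* `exists_delta_local` : the same for a normalized dualizing complex over a local ring (`δ m = 0`).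
* `natCast_le_depth_iff_local` : `n ≤ depth M ↔ ∀ d < n, Hom(M, ω[-d]) = 0`.
-/

set_option autoImplicit false
universe u v w
open CategoryTheory
attribute [local instance] HasDerivedCategory.standard

namespace Groth.Agent.Hensel.DzLocal

open Groth.Agent.LoccohA Groth.Agent.LoccohA.DExt

section General

variable {A : Type u} [CommRing A] [IsNoetherianRing A] {ω : Dual.D A}

theorem finite_E (hω : Dual.IsDualizing A ω) : ∀ (i : ℤ) (M : Type u) [AddCommGroup M] [Module A M]
    [Module.Finite A M], Module.Finite A (E ω i M) := fun i M _ _ _ => DExtFin.finite_E hω i M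

theorem exists_delta (hω : Dual.IsDualizing A ω) : ∃ δ : PrimeSpectrum A → ℤ,
    (∀ (p : PrimeSpectrum A) (i : ℤ),
      p ∈ Module.support A (E ω i (A ⧸ p.asIdeal)) ↔ i = -δ p) ∧
    (∀ p q : PrimeSpectrum A, p ⋖ q → δ p = δ q + 1) := by
  obtain ⟨δ, hδ, hcov⟩ := Groth.Agent.S1722.result A ω hω
  exact ⟨δ, hδ, hcov⟩

omit [IsNoetherianRing A] in
/-- `Hom(A, ω[i]) = H^i(ω)`. -/
theorem nonempty_E_self_equiv (ω : Dual.D A) (i : ℤ) : Nonempty (E ω i A ≃ₗ[A] Dual.HD A ω i) := by
  refine ⟨?_ ≪≫ₗ (LoccohB.DBase.homEquivHD 0 (ω⟦i⟧)) ≪≫ₗ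
    (LoccohB.DualShift.shiftHD ω i 0 i (by ring)).toLinearEquiv⟩
  exact Linear.homCongr A (Iso.refl _) (Iso.refl _)

end General

section Local

variable {A : Type u} [CommRing A] [IsLocalRing A]

theorem closedPoint_mem_support_iff (X : Type v) [AddCommGroup X] [Module A X] :
    IsLocalRing.closedPoint A ∈ Module.support A X ↔ Nontrivial X := by
  constructor
  · intro h
    by_contra hn
    rw [not_nontrivial_iff_subsingleton] at hn
    rw [Module.support_eq_empty] at h
    exact h
  · intro h
    obtain ⟨x, hx⟩ := exists_ne (0 : X)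
    rw [Module.mem_support_iff_exists_annihilator]
    refine ⟨x, ?_⟩
    apply IsLocalRing.le_maximalIdeal
    intro h
    rw [Ideal.eq_top_iff_one, Submodule.mem_annihilator_span_singleton, one_smul] at h
    exact hx h

theorem closedPoint_notMem_support_iff (X : Type v) [AddCommGroup X] [Module A X] :
    IsLocalRing.closedPoint A ∉ Module.support A X ↔ Subsingleton X := by
  rw [closedPoint_mem_support_iff, not_nontrivial_iff_subsingleton]

/-- over a local ring, `M` is its own localization at the closed point -/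
noncomputable def equivLocalized (M : Type v) [AddCommGroup M] [Module A M] :
    M ≃ₗ[A] LocalizedModule (IsLocalRing.closedPoint A).asIdeal.primeCompl M := by
  have h : IsLocalizedModule (IsLocalRing.closedPoint A).asIdeal.primeCompl
      (LinearMap.id : M →ₗ[A] M) := by
    have : IsLocalization (IsLocalRing.closedPoint A).asIdeal.primeCompl A := by
      apply IsLocalization.of_le_isUnit
      intro x hx
      exact IsLocalRing.notMem_maximalIdeal.mp hx
    exact isLocalizedModule_id _ M A
  exact IsLocalizedModule.linearEquiv (IsLocalRing.closedPoint A).asIdeal.primeCompl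
    (LinearMap.id : M →ₗ[A] M) (LocalizedModule.mkLinearMap _ M)

variable [IsNoetherianRing A] {ω : Dual.D A}

theorem exists_delta_local (hω : Dual.IsDualizing A ω) (hn : Dual.IsNormalized A ω) :
    ∃ δ : PrimeSpectrum A → ℤ,
    (∀ (p : PrimeSpectrum A) (i : ℤ),
      p ∈ Module.support A (E ω i (A ⧸ p.asIdeal)) ↔ i = -δ p) ∧
    (∀ p q : PrimeSpectrum A, p ⋖ q → δ p = δ q + 1) ∧
    δ (IsLocalRing.closedPoint A) = 0 ∧
    (∀ p : PrimeSpectrum A, 0 ≤ δ p) ∧
    (∀ p : PrimeSpectrum A, ringKrullDim (A ⧸ p.asIdeal) = (δ p).toNat) := by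
  obtain ⟨δ, hδ, hcov⟩ := exists_delta hω
  have hm : δ (IsLocalRing.closedPoint A) = 0 := by
    by_contra hne
    have h1 : IsLocalRing.closedPoint A ∈ Module.support A (E ω
      (-δ (IsLocalRing.closedPoint A)) (A ⧸ (IsLocalRing.closedPoint A).asIdeal)) :=
      (hδ _ _).mpr rfl
    have h2 : Subsingleton (E ω
      (-δ (IsLocalRing.closedPoint A)) (A ⧸ (IsLocalRing.closedPoint A).asIdeal)) :=
      hn _ (by omega)
    rw [Module.support_eq_empty] at h1
    exact h1
  have h0 : ∀ p : PrimeSpectrum A, 0 ≤ δ p := fun p => by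
    rw [← hm]
    exact DimFun.le_of_le hcov
      (show p ≤ IsLocalRing.closedPoint A from IsLocalRing.le_maximalIdeal p.2.ne_top)
  refine ⟨δ, hδ, hcov, hm, h0, fun p => ?_⟩
  rw [DimFun.dim_quotient hcov, hm]
  have := h0 p
  omega

/-- `n ≤ depth M ↔ ∀ d < n, Hom(M, ω[-d]) = 0`. -/
theorem natCast_le_depth_iff_local (hω : Dual.IsDualizing A ω) (hn : Dual.IsNormalized A ω)
    (M : Type u) [AddCommGroup M] [Module A M] [Module.Finite A M] (n : ℕ) :
    (n : ℕ∞) ≤ LocCoh.depth A M ↔ ∀ d : ℕ, d < n → Subsingleton (E ω (-(d : ℤ)) M) := by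
  obtain ⟨δ, hδ, hcov, hm, -⟩ := exists_delta_local hω hn
  have hfin := finite_E hω
  by_cases hM : Nontrivial M
  · have hne : IsLocalRing.maximalIdeal A • (⊤ : Submodule A M) ≠ ⊤ := by
      intro h
      have := Submodule.eq_bot_of_le_smul_of_le_jacobson_bot
        (IsLocalRing.maximalIdeal A) ⊤
        (Module.finite_def.mp inferInstance) h.ge (IsLocalRing.maximalIdeal_le_jacobson _)
      exact bot_ne_top this.symm
    constructor
    · intro h d hd
      obtain ⟨rs, h1, h2, h3⟩ := DepthSpread.exists_isWeaklyRegular_length_eq_of_le_idealDepth hne h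
      have := DExtDepth.notMem_of_isWeaklyRegular ω hfin hδ (IsLocalRing.closedPoint A) rs M h2
        ((LinearEquiv.isWeaklyRegular_congr (equivLocalized M) rs).1 h1) d (by omega)
      rwa [hm, closedPoint_notMem_support_iff, neg_zero, zero_sub] at this
    · intro h
      obtain ⟨as, h1, h2, h3⟩ := DExtDepth.exists_isWeaklyRegular ω hfin hδ
        (IsLocalRing.closedPoint A) n M (fun d hd => by
          rw [hm, closedPoint_notMem_support_iff, neg_zero, zero_sub]
          exact h d hd)
      have := DepthSpread.length_le_idealDepth (I := IsLocalRing.maximalIdeal A)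
        ((LinearEquiv.isWeaklyRegular_congr (equivLocalized M) as).2 h3) h2
      rw [h1] at this
      exact this
  · rw [not_nontrivial_iff_subsingleton] at hM
    have h1 : LocCoh.depth A M = ⊤ := by
      unfold LocCoh.depth LocCoh.idealDepth
      rw [if_pos (Subsingleton.elim _ _)]
    rw [h1]
    refine ⟨fun _ d _ => ?_, fun _ => le_top⟩
    rw [← closedPoint_notMem_support_iff (A := A)]
    intro h
    have := DExtSupp.support_subset ω _ h
    rw [closedPoint_mem_support_iff] at this
    exact not_subsingleton M hM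

/-- `dim Supp Hom(M, ω[i]) ≤ -i`, and vanishing outside `[-d, 0]`. -/
theorem E_range (hω : Dual.IsDualizing A ω) (hn : Dual.IsNormalized A ω)
    (M : Type u) [AddCommGroup M] [Module A M] [Module.Finite A M] (d : ℕ)
    (hd : Module.supportDim A M = d) (i : ℤ) (h : Nontrivial (E ω i M)) :
    -(d : ℤ) ≤ i ∧ i ≤ 0 := by
  obtain ⟨δ, hδ, hcov, hm, h0, hdim⟩ := exists_delta_local hω hn
  have hfin := finite_E hω
  rw [← closedPoint_mem_support_iff (A := A)] at h
  constructor
  · obtain ⟨q, hq, -, hqi⟩ := DExtDim.exists_le_of_mem ω hfin hδ hcov _ M i h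
    have h1 : ringKrullDim (A ⧸ q.asIdeal) ≤ Module.supportDim A M := by
      rw [_root_.ringKrullDim_quotient, Module.supportDim]
      refine Order.krullDim_le_of_strictMono
        (fun x : PrimeSpectrum.zeroLocus (q.asIdeal : Set A) =>
          (⟨x.1, Module.mem_support_mono x.2 hq⟩ : Module.support A M)) ?_
      intro x y hxy
      exact hxy
    rw [hdim, hd] at h1
    have h2 : (δ q).toNat ≤ d := by exact_mod_cast h1
    omega
  · by_contra hi
    exact DExtDim.notMem_of_gt ω hfin hδ (IsLocalRing.closedPoint A) M i (by omega) h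

theorem supportDim_E_le (hω : Dual.IsDualizing A ω) (hn : Dual.IsNormalized A ω)
    (M : Type u) [AddCommGroup M] [Module A M] [Module.Finite A M] (i : ℤ) :
    Module.supportDim A (E ω i M) ≤ ((-i).toNat : WithBot ℕ∞) := by
  obtain ⟨δ, hδ, hcov, hm, h0, hdim⟩ := exists_delta_local hω hn
  have hfin := finite_E hω
  refine iSup_le fun l => ?_
  have h1 := DimFun.length_le hcov (l.map (fun x => (x : PrimeSpectrum A)) (fun _ _ h => h))
  simp only [LTSeries.map_length, LTSeries.head_map, LTSeries.last_map] at h1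
  have h2 : i ≤ -δ (l.head : PrimeSpectrum A) := by
    by_contra hi
    exact DExtDim.notMem_of_gt ω hfin hδ (l.head : PrimeSpectrum A) M i (by omega) l.head.2
  have h3 := h0 (l.last : PrimeSpectrum A)
  have : l.length ≤ (-i).toNat := by omega
  exact_mod_cast this

/-- `M` is Cohen–Macaulay iff only `Hom(M, ω[-d])` is nonzero, `d = dim Supp M`. -/
theorem isCohenMacaulayModule_iff (hω : Dual.IsDualizing A ω) (hn : Dual.IsNormalized A ω)
    (M : Type u) [AddCommGroup M] [Module A M] [Module.Finite A M] [Nontrivial M] (d : ℕ)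
    (hd : Module.supportDim A M = d) : LocCoh.IsCohenMacaulayModule A M ↔
      ∀ i : ℤ, i ≠ d → Subsingleton (E ω (-i) M) := by
  have h1 := natCast_le_depth_iff_local hω hn M
  have h2 : LocCoh.depth A M ≤ d := by
    have := Localalg.Depth2.depth_le_supportDim (R := A) M
    rw [hd] at this
    exact_mod_cast this
  have h3 : LocCoh.IsCohenMacaulayModule A M ↔ (d : ℕ∞) ≤ LocCoh.depth A M := by
    unfold LocCoh.IsCohenMacaulayModule
    rw [hd]
    constructor
    · intro h
      exact le_of_eq (by exact_mod_cast h)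
    · intro h
      exact_mod_cast le_antisymm h h2
  rw [h3, h1]
  constructor
  · intro h i hi
    by_contra hne
    rw [not_subsingleton_iff_nontrivial] at hne
    obtain ⟨h4, h5⟩ := E_range hω hn M d hd (-i) hne
    obtain ⟨j, rfl⟩ : ∃ j : ℕ, i = j := ⟨i.toNat, by omega⟩
    have := h j (by omega)
    exact not_subsingleton _ this
  · intro h j hj
    exact h j (by omega)

end Local

end Groth.Agent.Hensel.DzLocal
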