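import Mathlib.RingTheory.Smooth.StandardSmoothOfFree
import Mathlib.RingTheory.Ideal.Quotient.Operations
import Mathlib.RingTheory.TensorProduct.Basic
import Groth.Agent.Hensel.MvHensel

/-!
Étale algebras lift along surjective ring maps (Stacks 04D1, Algebra 10.143.10).
-/

namespace Groth.Agent.Hensel.EtaleLiftQuot

open MvPolynomial Algebra TensorProduct

universe u v w

/-- An étale algebra has a presentation with as many relations as generators and invertible
Jacobian. -/
theorem exists_square_presentation (A : Type u) [CommRing A] (C : Type w) [CommRing C]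
    [Algebra A C] [Algebra.Etale A C] :
    ∃ (ι : Type) (_ : Fintype ι) (_ : DecidableEq ι) (G : ι → MvPolynomial ι A) (c : ι → C),
      Function.Surjective (aeval c : MvPolynomial ι A →ₐ[A] C) ∧
      RingHom.ker (aeval c : MvPolynomial ι A →ₐ[A] C) = Ideal.span (Set.range G) ∧
      IsUnit (aeval c (MvHensel.jac G).det) := by
  classical
  obtain ⟨ι, σ, hσ, hι, P, hP⟩ :=
    (Etale.iff_isStandardSmoothOfRelativeDimension_zero.mp
      (inferInstance : Algebra.Etale A C)).out
  have := Fintype.ofFinite ι
  have := Fintype.ofFinite σ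
  have hle := P.card_relations_le_card_vars_of_isFinite
  have hcard : Nat.card ι = Nat.card σ := by
    rw [Presentation.dimension] at hP
    omega
  have hbij : Function.Bijective P.map := by
    rw [Fintype.bijective_iff_injective_and_card]
    exact ⟨P.map_inj, by rw [← Nat.card_eq_fintype_card, ← Nat.card_eq_fintype_card, hcard]⟩
  let e : σ ≃ ι := Equiv.ofBijective P.map hbij
  let G : ι → MvPolynomial ι A := fun i => P.relation (e.symm i)
  refine ⟨ι, inferInstance, inferInstance, G, P.val, P.aeval_val_surjective, ?_, ?_⟩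
  · rw [← P.ker_eq_ker_aeval_val, ← P.span_range_relation_eq_ker]
    congr 1
    ext x
    simp only [Set.mem_range, G]
    exact ⟨fun ⟨s, hs⟩ => ⟨e s, by simpa using hs⟩, fun ⟨i, hi⟩ => ⟨e.symm i, hi⟩⟩
  · have h1 := P.jacobian_isUnit
    rw [PreSubmersivePresentation.jacobian_eq_jacobiMatrix_det] at h1
    have h2 : MvHensel.jac G = P.jacobiMatrix.reindex e e := by
      ext i j : 1
      rw [Matrix.reindex_apply, Matrix.submatrix_apply,
        PreSubmersivePresentation.jacobiMatrix_apply]
      have : P.map (e.symm i) = i := e.apply_symm_apply i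
      rw [this]
      rfl
    rw [h2, Matrix.det_reindex_self]
    have h3 : algebraMap P.Ring C P.jacobiMatrix.det = aeval P.val P.jacobiMatrix.det :=
      DFunLike.congr_fun P.algebraMap_eq P.jacobiMatrix.det
    rw [← h3]
    exact h1

/-- Étale algebras lift along surjections. -/
theorem exists_etale_lift {A : Type u} {A' : Type v} [CommRing A] [CommRing A'] [Algebra A A']
    (hA : Function.Surjective (algebraMap A A')) (C : Type w) [CommRing C] [Algebra A' C]
    [Algebra.Etale A' C] :
    ∃ (B : Type u) (_ : CommRing B) (_ : Algebra A B), Algebra.Etale A B ∧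
      Nonempty (A' ⊗[A] B ≃ₐ[A'] C) := by
  classical
  obtain ⟨ι, _, _, G', c, hc, hker, hunit⟩ := exists_square_presentation A' C
  choose G hG using fun i => MvPolynomial.map_surjective (algebraMap A A') hA (G' i)
  let J := Ideal.span (Set.range G)
  let B₀ := MvPolynomial ι A ⧸ J
  let δ : B₀ := Ideal.Quotient.mk J (MvHensel.jac G).det
  let B := Localization.Away δ
  have het : Algebra.Etale A B := MvHensel.etale_of_away_jacobian G B
  let _ : Algebra A C := ((algebraMap A' C).comp (algebraMap A A')).toAlgebra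
  have : IsScalarTower A A' C := .of_algebraMap_eq' rfl
  have hjac : (MvHensel.jac G).map (MvPolynomial.map (algebraMap A A')) = MvHensel.jac G' := by
    ext i j : 1
    simp only [Matrix.map_apply, MvHensel.jac, Matrix.of_apply]
    rw [← MvPolynomial.pderiv_map, hG]
  have hev : ∀ p : MvPolynomial ι A, aeval c p = aeval c (MvPolynomial.map (algebraMap A A') p) := by
    intro p
    rw [aeval_map_algebraMap]
  -- `B → C`
  let ψ₀ : B₀ →ₐ[A] C := Ideal.Quotient.liftₐ J (aeval c) (by
    intro p hp
    have h1 : J ≤ RingHom.ker (aeval c : MvPolynomial ι A →ₐ[A] C) := by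
      rw [Ideal.span_le]
      rintro _ ⟨i, rfl⟩
      rw [SetLike.mem_coe, RingHom.mem_ker, hev, hG, ← RingHom.mem_ker, hker]
      exact Ideal.subset_span ⟨i, rfl⟩
    exact h1 hp)
  have hψ₀ : ∀ p, ψ₀ (Ideal.Quotient.mk J p) = aeval c p := fun p => rfl
  let ψ : B →ₐ[A] C := IsLocalization.liftAlgHom (M := Submonoid.powers δ) (f := ψ₀) (by
    rintro ⟨_, k, rfl⟩
    simp only [map_pow]
    apply IsUnit.pow
    rw [hψ₀, hev]
    have : MvPolynomial.map (algebraMap A A') (MvHensel.jac G).det = (MvHensel.jac G').det := by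
      rw [← hjac, RingHom.map_det]
      rfl
    rw [this]
    exact hunit)
  let q : MvPolynomial ι A →ₐ[A] B := (IsScalarTower.toAlgHom A B₀ B).comp (Ideal.Quotient.mkₐ A J)
  have hψ : ∀ p, ψ (q p) = aeval c p := by
    intro p
    change IsLocalization.liftAlgHom _ (algebraMap B₀ B (Ideal.Quotient.mk J p)) = _
    rw [IsLocalization.liftAlgHom_apply, IsLocalization.lift_eq]
    exact hψ₀ p
  have hqG : ∀ i, q (G i) = 0 := by
    intro i
    change algebraMap B₀ B (Ideal.Quotient.mk J (G i)) = 0
    have h1 : Ideal.Quotient.mk J (G i) = 0 :=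
      Ideal.Quotient.eq_zero_iff_mem.mpr (Ideal.subset_span ⟨i, rfl⟩)
    rw [h1, map_zero]
  let f : A' ⊗[A] B →ₐ[A'] C :=
    Algebra.TensorProduct.lift (Algebra.ofId A' C) ψ (fun _ _ => mul_comm _ _)
  let x : ι → A' ⊗[A] B := fun i => 1 ⊗ₜ q (X i)
  have hx : ∀ p : MvPolynomial ι A, aeval x (MvPolynomial.map (algebraMap A A') p) = 1 ⊗ₜ q p := by
    intro p
    rw [aeval_map_algebraMap]
    have : (aeval x : MvPolynomial ι A →ₐ[A] A' ⊗[A] B) =
        (Algebra.TensorProduct.includeRight).comp q := by
      ext i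
      simp [x]
    rw [this]
    rfl
  let g : C →ₐ[A'] A' ⊗[A] B := AlgHom.liftOfSurjective (aeval c) hc (aeval x) (by
    intro p hp
    have h1 : p ∈ Ideal.span (Set.range G') := by rw [← hker]; exact hp
    have h2 : Ideal.span (Set.range G') ≤
        RingHom.ker (aeval x : MvPolynomial ι A' →ₐ[A'] A' ⊗[A] B) := by
      rw [Ideal.span_le]
      rintro _ ⟨i, rfl⟩
      rw [SetLike.mem_coe, RingHom.mem_ker, ← hG, hx, hqG, tmul_zero]
    exact h2 h1)
  have hg : ∀ p, g (aeval c p) = aeval x p := fun p => AlgHom.liftOfSurjective_apply _ _ _ _ _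
  refine ⟨B, inferInstance, inferInstance, het, ⟨AlgEquiv.ofAlgHom f g ?_ ?_⟩⟩
  · apply AlgHom.ext
    intro y
    obtain ⟨p, rfl⟩ := hc y
    rw [AlgHom.comp_apply, hg]
    have : f.comp (aeval x) = (aeval c : MvPolynomial ι A' →ₐ[A'] C) := by
      ext i
      simp [x, f, hψ]
    exact DFunLike.congr_fun this p
  · apply Algebra.TensorProduct.ext
    · ext
    · apply IsLocalization.algHom_ext (Submonoid.powers δ)
      apply Ideal.Quotient.algHom_ext
      ext i
      have h1 : f ((1 : A') ⊗ₜ[A] q (X i)) = aeval c (X i : MvPolynomial ι A') := by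
        simp only [f, Algebra.TensorProduct.lift_tmul, map_one, one_mul, hψ, aeval_X]
      have h2 : g (f ((1 : A') ⊗ₜ[A] q (X i))) = (1 : A') ⊗ₜ[A] q (X i) := by
        rw [h1, hg, aeval_X]
      exact h2

end Groth.Agent.Hensel.EtaleLiftQuot
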