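import Groth.Agent.Hensel.JacHensel
import Mathlib.Algebra.DualNumber
import Mathlib.Algebra.MvPolynomial.PDeriv
import Mathlib.RingTheory.AdjoinRoot
import Mathlib.RingTheory.Polynomial.UniversalFactorizationRing

/-!
# Lifting of coprime factorizations over henselian local rings

The polynomial is arbitrary (not necessarily monic); one factor is assumed monic.
-/

set_option autoImplicit false

universe u v w

namespace Groth.Agent.Hensel.FactorLift

open Polynomial

/-- First order Taylor expansion of multivariate polynomials. -/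
theorem aeval_add_of_mul_eq_zero {R : Type u} [CommRing R] {T : Type v} [CommRing T] [Algebra R T]
    {ι : Type w} [Fintype ι] (a e : ι → T) (he : ∀ i j, e i * e j = 0) (p : MvPolynomial ι R) :
    MvPolynomial.aeval (a + e) p = MvPolynomial.aeval a p +
      ∑ i, e i * MvPolynomial.aeval a (MvPolynomial.pderiv i p) := by
  classical
  induction p using MvPolynomial.induction_on with
  | C r => simp
  | add p q hp hq =>
    simp only [map_add, hp, hq, mul_add, Finset.sum_add_distrib]
    ring
  | mul_X p j hp =>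
    rw [map_mul, hp, MvPolynomial.aeval_X, Pi.add_apply, map_mul, MvPolynomial.aeval_X]
    have h1 : (∑ i, e i * MvPolynomial.aeval a (MvPolynomial.pderiv i p)) * e j = 0 := by
      rw [Finset.sum_mul]
      refine Finset.sum_eq_zero fun i _ => ?_
      rw [mul_right_comm, he, zero_mul]
    have h2 : ∀ i, e i * MvPolynomial.aeval a (MvPolynomial.pderiv i (p * MvPolynomial.X j)) =
        (e i * MvPolynomial.aeval a (MvPolynomial.pderiv i p)) * a j +
        MvPolynomial.aeval a p * (e i * (if i = j then 1 else 0)) := by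
      intro i
      rw [MvPolynomial.pderiv_mul, MvPolynomial.pderiv_X, map_add, map_mul, map_mul,
        MvPolynomial.aeval_X, Pi.single_apply]
      by_cases hij : j = i
      · subst hij
        simp
        ring
      · simp [hij, Ne.symm hij]
        ring
    rw [Finset.sum_congr rfl fun i _ => h2 i, Finset.sum_add_distrib, ← Finset.sum_mul,
      ← Finset.mul_sum]
    simp only [mul_ite, mul_one, mul_zero, Finset.sum_ite_eq', Finset.mem_univ, if_true]
    linear_combination h1

/-- The monic polynomial of degree `n` with the given lower coefficients. -/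
noncomputable def monoPoly {T : Type v} [CommRing T] {n : ℕ} (a : Fin n → T) : T[X] :=
  X ^ n + ∑ i : Fin n, C (a i) * X ^ (i : ℕ)

theorem freeMonic_map {R : Type u} [CommRing R] {T : Type v} [CommRing T] [Algebra R T] {n : ℕ}
    (a : Fin n → T) :
    (freeMonic R n).map (MvPolynomial.aeval (R := R) a).toRingHom = monoPoly a := by
  simp [freeMonic, monoPoly, Polynomial.map_sum]

theorem monic_monoPoly {T : Type v} [CommRing T] {n : ℕ} (a : Fin n → T) :
    (monoPoly a).Monic := by
  rw [← freeMonic_map (R := T)]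
  exact (monic_freeMonic T n).map _

theorem natDegree_monoPoly {T : Type v} [CommRing T] [Nontrivial T] {n : ℕ} (a : Fin n → T) :
    (monoPoly a).natDegree = n := by
  rw [← freeMonic_map (R := T), (monic_freeMonic T n).natDegree_map, natDegree_freeMonic]

theorem monoPoly_coeff_eq {T : Type v} [CommRing T] (g : T[X]) (hg : g.Monic) {n : ℕ}
    (hn : g.natDegree = n) : monoPoly (fun i : Fin n => g.coeff i) = g := by
  nontriviality T
  subst hn
  conv_rhs => rw [g.as_sum_range_C_mul_X_pow, Finset.sum_range_succ, ← Polynomial.leadingCoeff,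
    hg.leadingCoeff, C_1, one_mul, add_comm, ← Fin.sum_univ_eq_sum_range
      (fun i => C (g.coeff i) * X ^ i)]
  rfl

theorem map_monoPoly {T : Type v} [CommRing T] {T' : Type w} [CommRing T'] {n : ℕ} (a : Fin n → T)
    (φ : T →+* T') : (monoPoly a).map φ = monoPoly (fun i => φ (a i)) := by
  simp [monoPoly, Polynomial.map_sum]

/-- The coefficients of the remainder of `f` modulo the free monic polynomial of degree `n`. -/
noncomputable def remCoeff {R : Type u} [CommRing R] (f : R[X]) (n : ℕ) :
    Fin n → MvPolynomial (Fin n) R :=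
  fun i => ((f.map MvPolynomial.C) %ₘ (freeMonic R n)).coeff i

theorem map_map_C {R : Type u} [CommRing R] (f : R[X]) {n : ℕ} {T : Type v} [CommRing T]
    [Algebra R T] (a : Fin n → T) :
    (f.map MvPolynomial.C).map (MvPolynomial.aeval (R := R) a).toRingHom =
      f.map (algebraMap R T) := by
  rw [Polynomial.map_map]
  congr 1
  ext r
  simp

theorem aeval_remCoeff {R : Type u} [CommRing R] (f : R[X]) {n : ℕ} {T : Type v} [CommRing T]
    [Algebra R T] (a : Fin n → T) (i : Fin n) :
    MvPolynomial.aeval a (remCoeff f n i) =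
      ((f.map (algebraMap R T)) %ₘ (monoPoly a)).coeff i := by
  rw [← map_map_C f a, ← freeMonic_map (R := R), ← Polynomial.map_modByMonic _ (monic_freeMonic R n),
    coeff_map]
  rfl

theorem aeval_remCoeff_eq_zero_iff {R : Type u} [CommRing R] (f : R[X]) {n : ℕ} {T : Type v}
    [CommRing T] [Algebra R T] (a : Fin n → T) :
    (∀ i, MvPolynomial.aeval a (remCoeff f n i) = 0) ↔
      monoPoly a ∣ f.map (algebraMap R T) := by
  nontriviality T
  rw [← Polynomial.modByMonic_eq_zero_iff_dvd (monic_monoPoly a)]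
  constructor
  · intro h
    ext i
    rw [coeff_zero]
    by_cases hi : i < n
    · rw [← h ⟨i, hi⟩, aeval_remCoeff]
    · apply coeff_eq_zero_of_degree_lt
      refine (degree_modByMonic_lt _ (monic_monoPoly a)).trans_le ?_
      rw [degree_eq_natDegree (monic_monoPoly a).ne_zero, natDegree_monoPoly]
      exact_mod_cast not_lt.mp hi
  · intro h i
    rw [aeval_remCoeff, h, coeff_zero]

theorem eq_sum_fin_of_degree_lt {A : Type u} [CommRing A] (r : A[X]) {n : ℕ}
    (h : r.degree < n) : r = ∑ j : Fin n, C (r.coeff j) * X ^ (j : ℕ) := by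
  rw [Fin.sum_univ_eq_sum_range (fun j => C (r.coeff j) * X ^ j)]
  ext k
  simp only [finsetSum_coeff, coeff_C_mul, coeff_X_pow, mul_ite, mul_one, mul_zero,
    Finset.sum_ite_eq, Finset.mem_range]
  split_ifs with hk
  · rfl
  · refine coeff_eq_zero_of_degree_lt (h.trans_le ?_)
    exact_mod_cast not_lt.mp hk

theorem degree_modByMonic_freeMonic_lt {R : Type u} [CommRing R] [Nontrivial R] {n : ℕ}
    (p : (MvPolynomial (Fin n) R)[X]) : (p %ₘ freeMonic R n).degree < n := by
  refine (degree_modByMonic_lt _ (monic_freeMonic R n)).trans_le ?_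
  rw [degree_freeMonic]

set_option maxHeartbeats 1000000 in
/-- The Jacobian determinant of the factorization equations is nonzero at a coprime
factorization. -/
theorem jacobian_ne_zero {R : Type u} [CommRing R] {K : Type v} [Field K] [Algebra R K]
    (f : R[X]) {n : ℕ} (a₀ : Fin n → K) (h₀ : K[X])
    (hf : f.map (algebraMap R K) = monoPoly a₀ * h₀) (hc : IsCoprime (monoPoly a₀) h₀) :
    Matrix.det (Matrix.of fun i j =>
      MvPolynomial.aeval a₀ (MvPolynomial.pderiv i (remCoeff f n j))) ≠ 0 := by
  intro hdet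
  obtain ⟨v, hv, hvJ⟩ := Matrix.exists_vecMul_eq_zero_iff.mpr hdet
  let B := AdjoinRoot (monoPoly a₀)
  let T := DualNumber B
  let x : T := TrivSqZeroExt.inl (AdjoinRoot.root (monoPoly a₀))
  let a : Fin n → T := fun i => algebraMap K T (a₀ i)
  let e : Fin n → T := fun i => algebraMap K T (v i) * DualNumber.eps
  have halg : ∀ c : K, algebraMap K T c = TrivSqZeroExt.inl (algebraMap K B c) := fun c => rfl
  have halgR : ∀ c : R, algebraMap R T c = TrivSqZeroExt.inl (algebraMap R B c) := fun c => rfl
  have halgRK : ∀ c : R, algebraMap R T c = algebraMap K T (algebraMap R K c) := fun c => by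
    rw [halg, halgR, ← IsScalarTower.algebraMap_apply]
  have he : ∀ i j, e i * e j = 0 := by
    intro i j
    simp only [e]
    rw [mul_mul_mul_comm, DualNumber.eps_mul_eps, mul_zero]
  have haeval : ∀ p : MvPolynomial (Fin n) R, MvPolynomial.aeval a p =
      algebraMap K T (MvPolynomial.aeval a₀ p) := by
    intro p
    exact MvPolynomial.aeval_algebraMap_apply T a₀ p
  let Φ : MvPolynomial (Fin n) R →ₐ[R] T := MvPolynomial.aeval (a + e)
  let E : (MvPolynomial (Fin n) R)[X] →+* T := eval₂RingHom Φ.toRingHom x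
  -- evaluation at the root, composed with `inl`
  have hx : ∀ p : K[X], eval₂ (algebraMap K T) x p =
      TrivSqZeroExt.inl (AdjoinRoot.mk (monoPoly a₀) p) := by
    intro p
    have h1 : (eval₂RingHom (algebraMap K T) x) =
        (TrivSqZeroExt.inlHom B B).comp (AdjoinRoot.mk (monoPoly a₀)) := by
      refine Polynomial.ringHom_ext (fun c => ?_) ?_
      · rw [coe_eval₂RingHom, eval₂_C]
        rfl
      · rw [coe_eval₂RingHom, eval₂_X]
        rfl
    exact DFunLike.congr_fun h1 p
  have hEf : E (f.map MvPolynomial.C) = 0 := by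
    have h1 : E (f.map MvPolynomial.C) = eval₂ (algebraMap K T) x (f.map (algebraMap R K)) := by
      simp only [E, coe_eval₂RingHom, eval₂_map]
      congr 1
      refine RingHom.ext fun r => ?_
      exact (MvPolynomial.aeval_C _ r).trans (halgRK r)
    rw [h1, hx, hf, map_mul, AdjoinRoot.mk_self, zero_mul, TrivSqZeroExt.inl_zero]
  have hEG : E (freeMonic R n) = TrivSqZeroExt.inr
      (∑ i : Fin n, algebraMap K B (v i) * (AdjoinRoot.root (monoPoly a₀)) ^ (i : ℕ)) := by
    have h1 : E (freeMonic R n) = eval₂ (algebraMap K T) x (monoPoly a₀) +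
        ∑ i : Fin n, e i * x ^ (i : ℕ) := by
      simp only [E, coe_eval₂RingHom, freeMonic, monoPoly, eval₂_add, eval₂_X_pow,
        eval₂_finsetSum, eval₂_mul, eval₂_C]
      rw [add_assoc, ← Finset.sum_add_distrib]
      congr 1
      refine Finset.sum_congr rfl fun i _ => ?_
      rw [← add_mul]
      congr 1
      exact MvPolynomial.aeval_X _ i
    rw [h1, hx, AdjoinRoot.mk_self, TrivSqZeroExt.inl_zero, zero_add, TrivSqZeroExt.inr_sum]
    refine Finset.sum_congr rfl fun i _ => ?_
    simp only [e, x]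
    have hxi : (TrivSqZeroExt.inl (AdjoinRoot.root (monoPoly a₀)) : T) ^ (i : ℕ) =
        TrivSqZeroExt.inl (AdjoinRoot.root (monoPoly a₀) ^ (i : ℕ)) :=
      TrivSqZeroExt.inl_pow _ _
    rw [halg, DualNumber.inr_eq_smul_eps, mul_right_comm, hxi, ← TrivSqZeroExt.inl_mul,
      TrivSqZeroExt.inl_mul_eq_smul]
  have hΦ : ∀ j : Fin n, Φ (remCoeff f n j) = 0 := by
    intro j
    simp only [Φ]
    rw [aeval_add_of_mul_eq_zero a e he, haeval,
      (aeval_remCoeff_eq_zero_iff f a₀).mpr ⟨h₀, hf⟩ j, map_zero, zero_add]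
    have h1 := congrFun hvJ j
    rw [Matrix.vecMul, dotProduct] at h1
    simp only [Matrix.of_apply, Pi.zero_apply] at h1
    have h2 : ∑ i, e i * MvPolynomial.aeval a (MvPolynomial.pderiv i (remCoeff f n j)) =
        algebraMap K T (∑ i, v i * MvPolynomial.aeval a₀ (MvPolynomial.pderiv i (remCoeff f n j))) *
          DualNumber.eps := by
      rw [map_sum, Finset.sum_mul]
      refine Finset.sum_congr rfl fun i _ => ?_
      simp only [haeval, e, map_mul]
      ring
    rw [h2, h1, map_zero, zero_mul]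
  have hEr : E (f.map MvPolynomial.C %ₘ freeMonic R n) = 0 := by
    have hR : Nontrivial R := (algebraMap R K).domain_nontrivial
    rw [eq_sum_fin_of_degree_lt _ (degree_modByMonic_freeMonic_lt (f.map MvPolynomial.C)), map_sum]
    refine Finset.sum_eq_zero fun j _ => ?_
    rw [map_mul]
    simp only [E, coe_eval₂RingHom, eval₂_C]
    have := hΦ j
    rw [remCoeff] at this
    erw [this]
    rw [zero_mul]
  have hEq : TrivSqZeroExt.fst (E (f.map MvPolynomial.C /ₘ freeMonic R n)) =
      AdjoinRoot.mk (monoPoly a₀) h₀ := by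
    have h1 : (TrivSqZeroExt.fstHom R B B).toRingHom.comp E =
        (AdjoinRoot.mk (monoPoly a₀)).comp (mapRingHom (MvPolynomial.aeval (R := R) a₀).toRingHom) := by
      refine Polynomial.ringHom_ext (fun c => ?_) ?_
      · have h2 : (TrivSqZeroExt.fstHom R B B).comp Φ =
            (IsScalarTower.toAlgHom R K B).comp (MvPolynomial.aeval (R := R) a₀) := by
          refine MvPolynomial.algHom_ext fun i => ?_
          simp only [AlgHom.comp_apply, Φ, MvPolynomial.aeval_X, Pi.add_apply, a, e, halg, map_add,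
            map_mul]
          change algebraMap K B (a₀ i) + algebraMap K B (v i) * 0 = algebraMap K B (a₀ i)
          rw [mul_zero, add_zero]
        simp only [RingHom.comp_apply, E, coe_eval₂RingHom, eval₂_C, coe_mapRingHom, Polynomial.map_C]
        exact DFunLike.congr_fun h2 c
      · simp only [RingHom.comp_apply, E, coe_eval₂RingHom, eval₂_X, coe_mapRingHom, Polynomial.map_X]
        rfl
    have h2 : (f.map MvPolynomial.C /ₘ freeMonic R n).map (MvPolynomial.aeval (R := R) a₀).toRingHom = h₀ := by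
      rw [Polynomial.map_divByMonic _ (monic_freeMonic R n), freeMonic_map, map_map_C, hf,
        mul_divByMonic_cancel_left _ (monic_monoPoly a₀)]
    have := DFunLike.congr_fun h1 (f.map MvPolynomial.C /ₘ freeMonic R n)
    simp only [RingHom.comp_apply, coe_mapRingHom, h2] at this
    exact this
  have hdiv := congrArg E (modByMonic_add_div (f.map MvPolynomial.C) (freeMonic R n))
  rw [map_add, map_mul, hEr, hEf, zero_add, hEG] at hdiv
  have h0 := congrArg TrivSqZeroExt.snd hdiv
  rw [TrivSqZeroExt.snd_mul, TrivSqZeroExt.fst_inr, TrivSqZeroExt.snd_inr, TrivSqZeroExt.snd_zero,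
    hEq, zero_smul, zero_add] at h0
  obtain ⟨r, s, hrs⟩ := hc
  have hunit : AdjoinRoot.mk (monoPoly a₀) s * AdjoinRoot.mk (monoPoly a₀) h₀ = 1 := by
    rw [← map_mul, ← map_one (AdjoinRoot.mk (monoPoly a₀)), ← hrs, map_add, map_mul _ r,
      AdjoinRoot.mk_self, mul_zero, zero_add]
  have h3 : (∑ i : Fin n, algebraMap K B (v i) * (AdjoinRoot.root (monoPoly a₀)) ^ (i : ℕ)) = 0 := by
    have h4 : (∑ i : Fin n, algebraMap K B (v i) * (AdjoinRoot.root (monoPoly a₀)) ^ (i : ℕ)) *
        AdjoinRoot.mk (monoPoly a₀) h₀ = 0 := h0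
    calc _ = (∑ i : Fin n, algebraMap K B (v i) * (AdjoinRoot.root (monoPoly a₀)) ^ (i : ℕ)) *
        (AdjoinRoot.mk (monoPoly a₀) s * AdjoinRoot.mk (monoPoly a₀) h₀) := by
          rw [hunit, mul_one]
      _ = ((∑ i : Fin n, algebraMap K B (v i) * (AdjoinRoot.root (monoPoly a₀)) ^ (i : ℕ)) *
        AdjoinRoot.mk (monoPoly a₀) h₀) * AdjoinRoot.mk (monoPoly a₀) s := by ring
      _ = 0 := by rw [h4, zero_mul]
  have h4 : AdjoinRoot.mk (monoPoly a₀) (∑ i : Fin n, C (v i) * X ^ (i : ℕ)) = 0 := by
    rw [← h3, map_sum]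
    refine Finset.sum_congr rfl fun i _ => ?_
    rw [map_mul, map_pow, AdjoinRoot.mk_X, AdjoinRoot.mk_C]
    rfl
  rw [AdjoinRoot.mk_eq_zero] at h4
  have h5 : (∑ i : Fin n, C (v i) * X ^ (i : ℕ)) = 0 := by
    refine eq_zero_of_dvd_of_degree_lt h4 ?_
    rw [degree_eq_natDegree (monic_monoPoly a₀).ne_zero, natDegree_monoPoly]
    refine (degree_sum_le _ _).trans_lt ((Finset.sup_lt_iff (WithBot.bot_lt_coe _)).mpr
      fun i _ => ?_)
    exact (degree_C_mul_X_pow_le _ _).trans_lt (by exact_mod_cast i.2)
  apply hv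
  ext i
  have := congrArg (fun p => coeff p (i : ℕ)) h5
  simpa [finsetSum_coeff, coeff_X_pow, Fin.val_inj] using this

/-- The Jacobian determinant of the factorization equations is a unit at a coprime
factorization, over any ring. -/
theorem isUnit_jacobian {R : Type u} [CommRing R] {T : Type v} [CommRing T] [Algebra R T]
    (f : R[X]) {n : ℕ} (a₀ : Fin n → T) (h₀ : T[X])
    (hf : f.map (algebraMap R T) = monoPoly a₀ * h₀) (hc : IsCoprime (monoPoly a₀) h₀) :
    IsUnit (Matrix.det (Matrix.of fun i j =>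
      MvPolynomial.aeval a₀ (MvPolynomial.pderiv i (remCoeff f n j)))) := by
  by_contra hu
  obtain ⟨m, hm, hmem⟩ := exists_max_ideal_of_mem_nonunits hu
  let _ : Field (T ⧸ m) := Ideal.Quotient.field m
  have h1 : ∀ p : MvPolynomial (Fin n) R,
      MvPolynomial.aeval (fun i => Ideal.Quotient.mk m (a₀ i)) p =
        Ideal.Quotient.mk m (MvPolynomial.aeval a₀ p) := by
    intro p
    have : MvPolynomial.aeval (fun i => Ideal.Quotient.mk m (a₀ i)) =
        (Ideal.Quotient.mkₐ R m).comp (MvPolynomial.aeval (R := R) a₀) := by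
      ext i
      simp
    rw [this]
    rfl
  refine jacobian_ne_zero f (fun i => Ideal.Quotient.mk m (a₀ i))
    (h₀.map (Ideal.Quotient.mk m)) ?_ ?_ ?_
  · rw [← map_monoPoly, ← Polynomial.map_mul, ← hf, Polynomial.map_map]
    rfl
  · rw [← map_monoPoly]
    exact hc.map (mapRingHom (Ideal.Quotient.mk m))
  · have h2 := Ideal.Quotient.eq_zero_iff_mem.mpr hmem
    rw [RingHom.map_det] at h2
    simp only [h1]
    exact h2

/-- **Coprime factorization lifting** over a henselian local ring; the polynomial `f` is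
arbitrary, the first factor is monic. -/
theorem exists_factor_lift {R : Type u} [CommRing R] [HenselianLocalRing R]
    (f : R[X]) (g₀ h₀ : (IsLocalRing.ResidueField R)[X]) (hg : g₀.Monic)
    (hc : IsCoprime g₀ h₀) (hf : f.map (IsLocalRing.residue R) = g₀ * h₀) :
    ∃ g h : R[X], f = g * h ∧ g.Monic ∧ g.map (IsLocalRing.residue R) = g₀ ∧
      h.map (IsLocalRing.residue R) = h₀ := by
  have hg₀ : monoPoly (fun i : Fin g₀.natDegree => g₀.coeff i) = g₀ :=
    monoPoly_coeff_eq g₀ hg rfl
  have hf' : f.map (algebraMap R (IsLocalRing.ResidueField R)) =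
      monoPoly (fun i : Fin g₀.natDegree => g₀.coeff i) * h₀ := by
    rw [hg₀, ← hf]
    rfl
  obtain ⟨a, ha0, ha⟩ := JacHensel.exists_solution_lift (remCoeff f g₀.natDegree)
    (fun i => g₀.coeff i) ((aeval_remCoeff_eq_zero_iff f _).mpr ⟨h₀, hf'⟩)
    (jacobian_ne_zero f _ h₀ hf' (by rwa [hg₀]))
  obtain ⟨h, hh⟩ := (aeval_remCoeff_eq_zero_iff f a).mp ha0
  have hh' : f = monoPoly a * h := by
    rw [← hh]
    simp
  have hga : (monoPoly a).map (IsLocalRing.residue R) = g₀ := by
    rw [map_monoPoly]
    simp only [ha]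
    exact hg₀
  refine ⟨monoPoly a, h, hh', monic_monoPoly a, hga, ?_⟩
  have h3 := hf
  rw [hh', Polynomial.map_mul, hga] at h3
  exact mul_left_cancel₀ hg.ne_zero h3

/-- **Coprime factorization lifting** for pairs `(A, I)` such that points of étale algebras lift
(e.g. henselian pairs); the polynomial `f` is arbitrary, the first factor is monic. -/
theorem exists_factor_lift_of_etale_lift {A : Type u} [CommRing A] (I : Ideal A)
    (hlift : ∀ (A' : Type u) [CommRing A'] [Algebra A A'] [Algebra.Etale A A']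
      (σ : A' →ₐ[A] A ⧸ I), ∃ τ : A' →ₐ[A] A, (Ideal.Quotient.mkₐ A I).comp τ = σ)
    (f : A[X]) (g₀ h₀ : (A ⧸ I)[X]) (hg : g₀.Monic)
    (hc : IsCoprime g₀ h₀) (hf : f.map (Ideal.Quotient.mk I) = g₀ * h₀) :
    ∃ g h : A[X], f = g * h ∧ g.Monic ∧ g.map (Ideal.Quotient.mk I) = g₀ ∧
      h.map (Ideal.Quotient.mk I) = h₀ := by
  cases subsingleton_or_nontrivial (A ⧸ I) with
  | inl hsub =>
    refine ⟨1, f, (one_mul f).symm, monic_one, Subsingleton.elim _ _, Subsingleton.elim _ _⟩
  | inr hnt =>
  have hg₀ : monoPoly (fun i : Fin g₀.natDegree => g₀.coeff i) = g₀ :=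
    monoPoly_coeff_eq g₀ hg rfl
  have hf' : f.map (algebraMap A (A ⧸ I)) =
      monoPoly (fun i : Fin g₀.natDegree => g₀.coeff i) * h₀ := by
    rw [hg₀, ← hf]
    rfl
  choose b hb using fun i : Fin g₀.natDegree => Ideal.Quotient.mk_surjective (g₀.coeff i)
  have hmk : ∀ p : MvPolynomial (Fin g₀.natDegree) A,
      MvPolynomial.aeval (fun i : Fin g₀.natDegree => g₀.coeff i) p =
        Ideal.Quotient.mk I (MvPolynomial.aeval b p) := by
    intro p
    have : MvPolynomial.aeval (fun i : Fin g₀.natDegree => g₀.coeff i) =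
        (Ideal.Quotient.mkₐ A I).comp (MvPolynomial.aeval (R := A) b) := by
      ext i
      simp [hb]
    rw [this]
    rfl
  obtain ⟨a, ha0, ha⟩ := JacHensel.exists_solution_lift_of_etale_lift I hlift
    (remCoeff f g₀.natDegree) b (fun i => by
      rw [← Ideal.Quotient.eq_zero_iff_mem, ← hmk]
      exact (aeval_remCoeff_eq_zero_iff f _).mpr ⟨h₀, hf'⟩ i) (by
      have h2 := isUnit_jacobian f _ h₀ hf' (by rwa [hg₀])
      simp only [hmk] at h2
      rw [RingHom.map_det]
      exact h2)
  obtain ⟨h, hh⟩ := (aeval_remCoeff_eq_zero_iff f a).mp ha0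
  have hh' : f = monoPoly a * h := by
    rw [← hh]
    simp
  have hga : (monoPoly a).map (Ideal.Quotient.mk I) = g₀ := by
    rw [map_monoPoly]
    refine Eq.trans (congrArg monoPoly (funext fun i => ?_)) hg₀
    rw [← hb]
    exact Ideal.Quotient.eq.mpr (ha i)
  refine ⟨monoPoly a, h, hh', monic_monoPoly a, hga, ?_⟩
  have h3 := hf
  rw [hh', Polynomial.map_mul, hga] at h3
  exact hg.isRegular.left h3

end Groth.Agent.Hensel.FactorLift
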