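import Mathlib.RingTheory.Etale.Field
import Mathlib.RingTheory.Etale.Pi
import Mathlib.RingTheory.Etale.StandardEtale
import Mathlib.RingTheory.LocalRing.ResidueField.Basic
import Mathlib.RingTheory.TensorProduct.Pi
import Mathlib.RingTheory.AdjoinRoot
import Mathlib.FieldTheory.PrimitiveElement
import Mathlib.LinearAlgebra.Dimension.Constructions

/-!
Finite étale algebras over the residue field of a local ring lift to finite étale algebras
(no henselian hypothesis needed).
-/

set_option autoImplicit false
universe u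

namespace Groth.Agent.Hensel.FiniteEtaleLift

open Polynomial IsLocalRing
open scoped TensorProduct

/-- Over a local ring, coprimality of a monic polynomial with any polynomial can be tested over the
residue field. -/
theorem isCoprime_of_isCoprime_residue {R : Type*} [CommRing R] [IsLocalRing R] (f h : R[X])
    (hf : f.Monic) (hc : IsCoprime (f.map (residue R)) (h.map (residue R))) : IsCoprime f h := by
  obtain ⟨a', b', hab⟩ := hc
  obtain ⟨a, rfl⟩ := Polynomial.map_surjective _ residue_surjective a'
  obtain ⟨b, rfl⟩ := Polynomial.map_surjective _ residue_surjective b'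
  let B := AdjoinRoot f
  have hfin : Module.Finite R B := hf.finite_adjoinRoot
  let N : Ideal B := Ideal.span {AdjoinRoot.mk f h}
  have h1 : a * f + b * h - 1 ∈ (maximalIdeal R).map (C : R →+* R[X]) := by
    rw [← ker_residue (R := R), ← Polynomial.ker_mapRingHom, RingHom.mem_ker]
    simp [hab]
  have h2 : AdjoinRoot.mk f b * AdjoinRoot.mk f h - 1 ∈ (maximalIdeal R).map (algebraMap R B) := by
    have h3 := Ideal.mem_map_of_mem (AdjoinRoot.mk f) h1
    rw [Ideal.map_map] at h3
    have h4 : (AdjoinRoot.mk f) (a * f + b * h - 1) =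
        AdjoinRoot.mk f b * AdjoinRoot.mk f h - 1 := by
      simp
    rw [h4] at h3
    exact h3
  have h5 : (⊤ : Submodule R B) ≤ N.restrictScalars R ⊔ maximalIdeal R • (⊤ : Submodule R B) := by
    intro x _
    rw [Ideal.smul_top_eq_map]
    refine Submodule.mem_sup.mpr ⟨x * (AdjoinRoot.mk f b * AdjoinRoot.mk f h), ?_,
      - (x * (AdjoinRoot.mk f b * AdjoinRoot.mk f h - 1)), ?_, by ring⟩
    · exact N.mul_mem_left _ (N.mul_mem_left _ (Ideal.subset_span rfl))
    · exact neg_mem (Ideal.mul_mem_left _ _ h2)
  have h6 := Submodule.le_of_le_smul_of_le_jacobson_bot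
    (Module.finite_def.mp hfin) (maximalIdeal_le_jacobson ⊥) h5
  have h7 : (1 : B) ∈ N := h6 (Submodule.mem_top)
  obtain ⟨c, hc⟩ := Ideal.mem_span_singleton'.mp h7
  obtain ⟨c, rfl⟩ := AdjoinRoot.mk_surjective c
  rw [← map_mul, ← map_one (AdjoinRoot.mk f), AdjoinRoot.mk_eq_mk] at hc
  obtain ⟨d, hd⟩ := hc
  exact ⟨-d, c, by linear_combination hd⟩

/-- `R[X]/(f)` is étale over `R` for `f` monic and separable. -/
theorem etale_adjoinRoot {R : Type*} [CommRing R] (f : R[X]) (hf : f.Monic)
    (hs : f.Separable) : Algebra.Etale R (AdjoinRoot f) := by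
  obtain ⟨a, b, hab⟩ := hs
  let P : StandardEtalePair R := ⟨f, hf, 1, b, a, 0, by rw [pow_zero]; linear_combination hab⟩
  have h1 : IsUnit (AdjoinRoot.mk P.f P.g) := by
    change IsUnit (AdjoinRoot.mk f 1)
    simp
  let e : AdjoinRoot f ≃ₐ[AdjoinRoot f] Localization.Away (AdjoinRoot.mk P.f P.g) :=
    IsLocalization.atUnit (AdjoinRoot f) _ _ h1
  exact .of_equiv (P.equivAwayAdjoinRoot.trans (e.restrictScalars R).symm)

/-- Lifting a finite separable field extension of the residue field. -/
theorem exists_lift_field (R : Type u) [CommRing R] [IsLocalRing R] (L : Type u) [Field L]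
    [Algebra (ResidueField R) L] [Module.Finite (ResidueField R) L]
    [Algebra.IsSeparable (ResidueField R) L] :
    ∃ (S : Type u) (_ : CommRing S) (_ : Algebra R S), Module.Finite R S ∧ Algebra.Etale R S ∧
      Nonempty (ResidueField R ⊗[R] S ≃ₐ[ResidueField R] L) := by
  let K := ResidueField R
  let pb := Field.powerBasisOfFiniteOfSeparable K L
  let f₀ := minpoly K pb.gen
  have hf₀ : f₀.Monic := minpoly.monic pb.isIntegral_gen
  obtain ⟨f, hf1, hf2, hf3⟩ := Polynomial.lifts_and_natDegree_eq_and_monic
    (f := residue R) (p := f₀) (by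
      rw [Polynomial.lifts_iff_coeff_lifts]
      intro n
      exact residue_surjective _) hf₀
  have hsep : f.Separable := by
    refine isCoprime_of_isCoprime_residue f (derivative f) hf3 ?_
    rw [← Polynomial.derivative_map, hf1]
    exact Algebra.IsSeparable.isSeparable K pb.gen
  let S := AdjoinRoot f
  let : Algebra R L := ((algebraMap K L).comp (residue R)).toAlgebra
  have : IsScalarTower R K L := .of_algebraMap_eq fun _ => rfl
  have hroot : f.eval₂ (algebraMap R L) pb.gen = 0 := by
    have h1 : f.eval₂ (algebraMap R L) pb.gen = (f.map (residue R)).eval₂ (algebraMap K L) pb.gen := by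
      rw [Polynomial.eval₂_map]; rfl
    rw [h1, hf1]
    exact minpoly.aeval K pb.gen
  let g : S →ₐ[R] L := AdjoinRoot.liftAlgHom f (Algebra.ofId R L) pb.gen hroot
  let h : K ⊗[R] S →ₐ[K] L :=
    Algebra.TensorProduct.lift (Algebra.ofId K L) g (fun _ _ => .all _ _)
  have hfin : Module.Finite R S := hf3.finite_adjoinRoot
  have hfree : Module.Free R S := hf3.free_adjoinRoot
  have hsurj : Function.Surjective h := by
    rw [← AlgHom.range_eq_top, eq_top_iff, ← pb.adjoin_gen_eq_top, Algebra.adjoin_le_iff]
    rintro _ rfl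
    refine ⟨1 ⊗ₜ AdjoinRoot.root f, ?_⟩
    have h1 : g (AdjoinRoot.root f) = pb.gen := AdjoinRoot.liftAlgHom_root f (Algebra.ofId R L) pb.gen hroot
    have h2 : h (1 ⊗ₜ AdjoinRoot.root f) = Algebra.ofId K L 1 * g (AdjoinRoot.root f) :=
      Algebra.TensorProduct.lift_tmul _ _ _ _ _
    rw [map_one, one_mul, h1] at h2
    exact h2
  have hrank : Module.finrank K (K ⊗[R] S) = Module.finrank K L := by
    rw [Module.finrank_baseChange, pb.finrank, ← pb.natDegree_minpoly]
    change Module.finrank R (AdjoinRoot f) = f₀.natDegree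
    rw [(AdjoinRoot.powerBasis' hf3).finrank, AdjoinRoot.powerBasis'_dim, hf2]
  refine ⟨S, inferInstance, inferInstance, hfin, etale_adjoinRoot f hf3 hsep,
    ⟨AlgEquiv.ofBijective h ⟨?_, hsurj⟩⟩⟩
  exact (LinearMap.injective_iff_surjective_of_finrank_eq_finrank (f := h.toLinearMap) hrank).mpr hsurj

/-- Every finite étale algebra over the residue field of a local ring lifts to a finite étale
algebra. -/
theorem exists_finite_etale_lift (R : Type u) [CommRing R]
    [IsLocalRing R] (A : Type u) [CommRing A] [Algebra (ResidueField R) A]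
    [Algebra.Etale (ResidueField R) A] :
    ∃ (S : Type u) (_ : CommRing S) (_ : Algebra R S), Module.Finite R S ∧ Algebra.Etale R S ∧
      Nonempty (ResidueField R ⊗[R] S ≃ₐ[ResidueField R] A) := by
  obtain ⟨ι, hι, L, hL, hLalg, E, hE⟩ :=
    (Algebra.Etale.iff_exists_algEquiv_prod (ResidueField R) A).mp inferInstance
  have key : ∀ i, ∃ (S : Type u) (_ : CommRing S) (_ : Algebra R S), Module.Finite R S ∧
      Algebra.Etale R S ∧ Nonempty (ResidueField R ⊗[R] S ≃ₐ[ResidueField R] L i) := by
    intro i
    have := (hE i).1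
    have := (hE i).2
    exact exists_lift_field R (L i)
  choose S hS hSalg hfin het hiso using key
  have := Fintype.ofFinite ι
  classical
  refine ⟨∀ i, S i, inferInstance, inferInstance, inferInstance, inferInstance, ⟨?_⟩⟩
  exact ((Algebra.TensorProduct.piRight R (ResidueField R) (ResidueField R) S).trans
    (AlgEquiv.piCongrRight fun i => (hiso i).some)).trans E.symm

end Groth.Agent.Hensel.FiniteEtaleLift
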