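import Mathlib.RingTheory.Henselian
import Mathlib.RingTheory.QuasiFinite.Basic
import Mathlib.RingTheory.Ideal.GoingUp
import Mathlib.RingTheory.Ideal.Quotient.Operations
import Groth.Agent.Hensel.PairEtale
import Groth.Agent.Hensel.PairIdem
import Groth.Agent.S0520

/-!
The finite part of a quasi-finite algebra over a henselian pair: if `B/IB` is integral over `A`,
then there is an idempotent `e ≡ 1 mod IB` of `B` such that `B/(1-e)` is finite over `A`.
-/

namespace Groth.Agent.Hensel.FinitePart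

universe u v w

/-- For a subalgebra `B₀` of `B`, the ideal of elements `g` of `B₀` such that `B₀[1/g] = B[1/g]`. -/
def denomIdeal {A : Type*} {B : Type*} [CommRing A] [CommRing B] [Algebra A B]
    (B₀ : Subalgebra A B) : Ideal B₀ :=
  ⨅ x : B, Ideal.radical (R := B₀)
    ((1 : Submodule B₀ B).comap (LinearMap.toSpanSingleton B₀ B x))

theorem mem_denomIdeal {A : Type*} {B : Type*} [CommRing A] [CommRing B] [Algebra A B]
    (B₀ : Subalgebra A B) (g : B₀) :
    g ∈ denomIdeal B₀ ↔ ∀ x : B, ∃ n : ℕ, (g : B) ^ n * x ∈ B₀ := by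
  rw [denomIdeal, Submodule.mem_iInf]
  refine forall_congr' fun x => ?_
  rw [Ideal.mem_radical_iff]
  refine exists_congr fun n => ?_
  rw [Submodule.mem_comap, LinearMap.toSpanSingleton_apply, Submodule.mem_one]
  constructor
  · rintro ⟨y, hy⟩
    have : (g : B) ^ n * x = (y : B) := by
      rw [show ((y : B)) = algebraMap B₀ B y from rfl, hy]
      simp [Algebra.smul_def]
    rw [this]
    exact y.2
  · intro h
    refine ⟨⟨_, h⟩, ?_⟩
    simp [Algebra.smul_def]

/-- Uniform denominators for elements of `IB`. -/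
theorem exists_pow_mul_mem_map {A : Type*} {B : Type*} [CommRing A] [CommRing B] [Algebra A B]
    (B₀ : Subalgebra A B) (I : Ideal A) (g : B₀) (hg : ∀ x : B, ∃ n : ℕ, (g : B) ^ n * x ∈ B₀)
    (y : B) (hy : y ∈ I.map (algebraMap A B)) :
    ∃ n : ℕ, ∃ z ∈ I.map (algebraMap A B₀), (z : B) = (g : B) ^ n * y := by
  rw [Ideal.map, Ideal.span] at hy
  induction hy using Submodule.span_induction with
  | mem x h =>
    obtain ⟨a, ha, rfl⟩ := h
    exact ⟨0, algebraMap A B₀ a, Ideal.mem_map_of_mem _ ha, by simp⟩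
  | zero => exact ⟨0, 0, Ideal.zero_mem _, by simp⟩
  | add x y _ _ hx hy =>
    obtain ⟨n, z, hz, hzx⟩ := hx
    obtain ⟨m, w, hw, hwy⟩ := hy
    refine ⟨n + m, g ^ m * z + g ^ n * w, add_mem (Ideal.mul_mem_left _ _ hz)
      (Ideal.mul_mem_left _ _ hw), ?_⟩
    push_cast
    rw [hzx, hwy]
    ring
  | smul a x _ hx =>
    obtain ⟨n, z, hz, hzx⟩ := hx
    obtain ⟨m, hm⟩ := hg a
    refine ⟨n + m, ⟨_, hm⟩ * z, Ideal.mul_mem_left _ _ hz, ?_⟩
    push_cast
    rw [hzx, smul_eq_mul]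
    ring

theorem exists_finite_part {A : Type u} [CommRing A] (I : Ideal A) [HenselianRing A I]
    (B : Type v) [CommRing B] [Algebra A B] [Algebra.FiniteType A B] [Algebra.QuasiFinite A B]
    (hint : Algebra.IsIntegral A (B ⧸ I.map (algebraMap A B))) :
    ∃ e : B, IsIdempotentElem e ∧ 1 - e ∈ I.map (algebraMap A B) ∧
      Module.Finite A (B ⧸ Ideal.span {1 - e}) := by
  classical
  obtain ⟨hI, hfac⟩ := (Groth.Agent.S0520.result A I).mp inferInstance
  obtain ⟨B₀, hB₀fin, hB₀⟩ := PairEtale.exists_finite_subalgebra (R := A) (S := B)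
  set IB : Ideal B := I.map (algebraMap A B) with hIB
  let K : Ideal B₀ := IB.comap (algebraMap B₀ B)
  have hJK : denomIdeal B₀ ⊔ K = ⊤ := by
    by_contra hne
    obtain ⟨P, hP, hle⟩ := Ideal.exists_le_maximal _ hne
    have hPprime := hP.isPrime
    have hint' : Algebra.IsIntegral B₀ (B ⧸ IB) := Algebra.IsIntegral.tower_top (R := A)
    obtain ⟨Q, -, hQ, hQP⟩ := Ideal.exists_ideal_over_prime_of_isIntegral P (⊥ : Ideal (B ⧸ IB)) (by
      intro x hx
      rw [Ideal.mem_comap, Ideal.mem_bot] at hx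
      have h1 : Ideal.Quotient.mk IB (algebraMap B₀ B x) = 0 := hx
      rw [Ideal.Quotient.eq_zero_iff_mem] at h1
      exact hle (le_sup_right (a := denomIdeal B₀) h1))
    obtain ⟨g, hgB, hgq, hg⟩ := hB₀ (Q.comap (Ideal.Quotient.mk IB)) inferInstance
    have h2 : (⟨g, hgB⟩ : B₀) ∈ P :=
      hle (le_sup_left (b := K) ((mem_denomIdeal B₀ _).mpr hg))
    rw [← hQP] at h2
    exact hgq h2
  obtain ⟨b₁, hb₁, k, hk, hbk⟩ := Submodule.mem_sup.mp (hJK ▸ Submodule.mem_top : (1 : B₀) ∈ _)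
  have hb₁' := (mem_denomIdeal B₀ _).mp hb₁
  have hkI : (k : B) ∈ IB := hk
  have hb₁k : k = 1 - b₁ := by rw [← hbk]; ring
  obtain ⟨m, z, hz, hzk⟩ := exists_pow_mul_mem_map B₀ I b₁ hb₁' k hkI
  have hz' : b₁ * z = b₁ ^ (m + 1) * (1 - b₁) := by
    apply Subtype.ext
    push_cast
    rw [hzk, hb₁k]
    push_cast
    ring
  have hpow : ∀ n : ℕ, b₁ ^ (m + 1) - b₁ ^ (m + 1 + n) ∈ I.map (algebraMap A B₀) := by
    intro n
    induction n with
    | zero => simp
    | succ n ih =>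
      have h1 : b₁ ^ n * (b₁ * z) ∈ I.map (algebraMap A B₀) :=
        Ideal.mul_mem_left _ _ (Ideal.mul_mem_left _ _ hz)
      have := add_mem ih h1
      rw [hz'] at this
      convert this using 1
      ring
  have hpow' : ∀ n : ℕ, (1 : B) - (b₁ : B) ^ n ∈ IB := by
    intro n
    induction n with
    | zero => simp
    | succ n ih =>
      have h1 : (b₁ : B) ^ n * (k : B) ∈ IB := Ideal.mul_mem_left _ _ hkI
      have := add_mem ih h1
      rw [hb₁k] at this
      convert this using 1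
      push_cast
      ring
  let b : B₀ := b₁ ^ (m + 1)
  have hbidem : b * b - b ∈ I.map (algebraMap A B₀) := by
    have := hpow (m + 1)
    rw [← neg_mem_iff]
    convert this using 1
    simp only [b]
    ring
  have hbden : ∀ x : B, ∃ n : ℕ, (b : B) ^ n * x ∈ B₀ := by
    intro x
    obtain ⟨n, hn⟩ := hb₁' x
    refine ⟨n, ?_⟩
    have h2 : (b : B) ^ n * x = (b₁ : B) ^ (m * n) * ((b₁ : B) ^ n * x) := by
      simp only [b]
      push_cast
      ring
    rw [h2]
    exact B₀.mul_mem (B₀.pow_mem b₁.2 _) hn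
  -- lift the idempotent
  obtain ⟨e, he, heb⟩ := PairIdem.exists_idempotent_lift_of_factor_lift I hI hfac b hbidem
  have hmapIB : ∀ y ∈ I.map (algebraMap A B₀), (y : B) ∈ IB := by
    intro y hy
    have h1 : (I.map (algebraMap A B₀)) ≤ IB.comap (algebraMap B₀ B) := by
      rw [Ideal.map_le_iff_le_comap, Ideal.comap_comap, ← IsScalarTower.algebraMap_eq]
      exact Ideal.le_comap_map
    exact h1 hy
  have heIB : (1 : B) - (e : B) ∈ IB := by
    have h1 := hpow' (m + 1)
    have h2 := hmapIB _ heb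
    have := Ideal.sub_mem _ h1 h2
    convert this using 1
    simp only [b]
    push_cast
    ring
  refine ⟨e, congrArg Subtype.val he, heIB, ?_⟩
  -- finiteness: the image `B₁` of `B₀` in `B/(1-e)` is everything
  set B' := B ⧸ Ideal.span {1 - (e : B)} with hB'
  let ρ : B →ₐ[A] B' := Ideal.Quotient.mkₐ A _
  let B₁ : Subalgebra A B' := B₀.map ρ
  let ρ₀ : B₀ →ₐ[A] B₁ := (ρ.comp B₀.val).codRestrict B₁ (fun x => ⟨x, x.2, rfl⟩)
  have hρ₀ : ∀ x : B₀, ((ρ₀ x : B₁) : B') = ρ x := fun x => rfl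
  have hρ₀surj : Function.Surjective ρ₀ := by
    rintro ⟨_, x, hx, rfl⟩
    exact ⟨⟨x, hx⟩, rfl⟩
  have hB₁fin : Module.Finite A B₁ := Module.Finite.of_surjective ρ₀.toLinearMap hρ₀surj
  have hρe : ρ e = 1 := by
    have h1 : ρ (1 - e) = 0 := Ideal.Quotient.eq_zero_iff_mem.mpr (Ideal.mem_span_singleton_self _)
    rw [map_sub, map_one, sub_eq_zero] at h1
    exact h1.symm
  have hunit : IsUnit (ρ₀ b) := by
    have hjac : I.map (algebraMap A B₁) ≤ Ideal.jacobson ⊥ := PairIdem.map_le_jacobson_bot I hI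
    have h1 : ρ₀ (e - b) ∈ I.map (algebraMap A B₁) := by
      have h2 : (I.map (algebraMap A B₀)) ≤ (I.map (algebraMap A B₁)).comap ρ₀.toRingHom := by
        rw [Ideal.map_le_iff_le_comap, Ideal.comap_comap]
        have : ρ₀.toRingHom.comp (algebraMap A B₀) = algebraMap A B₁ := ρ₀.comp_algebraMap
        rw [this]
        exact Ideal.le_comap_map
      exact h2 heb
    have h3 : ρ₀ e = 1 := Subtype.ext hρe
    have h4 := Ideal.mem_jacobson_bot.mp (hjac h1) (-1)
    rw [map_sub, h3] at h4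
    convert h4 using 1
    ring
  have htop : ∀ x : B', x ∈ B₁ := by
    intro x
    obtain ⟨x, rfl⟩ := Ideal.Quotient.mk_surjective x
    obtain ⟨n, hn⟩ := hbden x
    obtain ⟨u, hu⟩ := hunit
    have h1 : ρ ((b : B) ^ n * x) ∈ B₁ := ⟨_, hn, rfl⟩
    have h2 : (((u⁻¹ ^ n : B₁ˣ) : B₁) : B') * ρ ((b : B) ^ n * x) ∈ B₁ := B₁.mul_mem (Subtype.prop _) h1
    have h3 : (((u⁻¹ ^ n : B₁ˣ) : B₁) : B') * ρ ((b : B) ^ n * x) = ρ x := by
      have h4 : ((((u⁻¹ ^ n : B₁ˣ) : B₁) * (ρ₀ b) ^ n : B₁) : B') = 1 := by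
        rw [← hu, ← Units.val_pow_eq_pow_val, ← Units.val_mul, ← mul_pow, inv_mul_cancel, one_pow]
        rfl
      rw [map_mul, ← mul_assoc]
      have h5 : (((u⁻¹ ^ n : B₁ˣ) : B₁) : B') * ρ ((b : B) ^ n) = 1 := by
        rw [← h4]
        push_cast
        rw [map_pow]
        rfl
      rw [h5, one_mul]
    exact h3 ▸ h2
  exact Module.Finite.of_surjective B₁.val.toLinearMap (fun x => ⟨⟨x, htop x⟩, rfl⟩)

end Groth.Agent.Hensel.FinitePart
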