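import Groth.Agent.Sga4B.TorsionStalks
import Groth.Agent.Sga3C.DimTop
import Mathlib.AlgebraicGeometry.Fiber
import Mathlib.AlgebraicGeometry.Morphisms.Integral
import Mathlib.AlgebraicGeometry.Morphisms.Proper
import Mathlib.FieldTheory.IsAlgClosed.AlgebraicClosure

/-!
Geometric fibres over the algebraic closure of the residue field, and pull back of sheaves whose
sections are locally killed by powers of `p`.
-/

set_option autoImplicit false
universe u

open CategoryTheory CategoryTheory.Limits AlgebraicGeometry Opposite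

namespace Groth.Agent.Hensel.GeomBar

open Groth.Agent.Etcore

section Geom

variable {X Y : Scheme.{u}} (f : X ⟶ Y) (y : Y)

/-- The standard geometric point over `y`, with values in the algebraic closure of `κ(y)`. -/
noncomputable def geomBar : Spec (.of (AlgebraicClosure (Y.residueField y))) ⟶ Y :=
  Spec.map (CommRingCat.ofHom (algebraMap (Y.residueField y) (AlgebraicClosure (Y.residueField y))))
    ≫ Y.fromSpecResidueField y

theorem geomBar_apply (x) : geomBar y x = y := by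
  unfold geomBar
  rw [Scheme.Hom.comp_apply]
  exact Y.fromSpecResidueField_apply _ _

/-- The dimension of the geometric fibre over the algebraic closure of `κ(y)` equals the dimension
of the fibre. -/
theorem topologicalKrullDim_geomBar :
    topologicalKrullDim ↥(pullback f (geomBar y)) = topologicalKrullDim ↥(f.fiber y) := by
  let e : Spec (.of (AlgebraicClosure (Y.residueField y))) ⟶ Spec (Y.residueField y) :=
    Spec.map (CommRingCat.ofHom
      (algebraMap (Y.residueField y) (AlgebraicClosure (Y.residueField y))))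
  have hint : IsIntegralHom e := by
    rw [IsIntegralHom.SpecMap_iff]
    change (algebraMap (Y.residueField y) (AlgebraicClosure (Y.residueField y))).IsIntegral
    exact algebraMap_isIntegral_iff.2 inferInstance
  have hsurj : Surjective e := ⟨fun x => ⟨default, Subsingleton.elim _ _⟩⟩
  let g : pullback (pullback.snd f (Y.fromSpecResidueField y)) e ⟶ f.fiber y :=
    pullback.fst _ _
  have hg : IsIntegralHom g :=
    inferInstanceAs (IsIntegralHom (pullback.fst (pullback.snd f (Y.fromSpecResidueField y)) e))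
  have hg' : Surjective g :=
    inferInstanceAs (Surjective (pullback.fst (pullback.snd f (Y.fromSpecResidueField y)) e))
  rw [← Groth.Agent.Sga3C.DimTop.topologicalKrullDim_eq_of_isIntegralHom g]
  let i := pullbackLeftPullbackSndIso f (Y.fromSpecResidueField y) e
  exact (IsHomeomorph.topologicalKrullDim_eq _ (Scheme.homeoOfIso i).isHomeomorph).symm

/-- If `p = 0` in the global functions of `Y` then any field valued point lies in char `p`. -/
theorem charP_of_point (p : ℕ) (hp : p.Prime) (hY : (p : Γ(Y, ⊤)) = 0) {Ω : Type u} [Field Ω]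
    (ξ : Spec (CommRingCat.of Ω) ⟶ Y) : CharP Ω p := by
  have h0 : (p : Ω) = 0 := by
    have h1 := congrArg ((Scheme.ΓSpecIso (CommRingCat.of Ω)).hom.hom.comp (ξ.appTop.hom)) hY
    rw [map_natCast, map_zero] at h1
    exact h1
  exact (CharP.charP_iff_prime_eq_zero hp).2 h0

end Geom

section PTors

variable {X Y : Scheme.{u}}

/-- Every section is étale-locally killed by a power of `p`. -/
def LocPTors (p : ℕ) (F : EtCoh.Ab X) : Prop :=
  ∀ (U : X.Etale) (s : EtCoh.sect F U) (x : U.left), ∃ (V : X.Etale) (g : V ⟶ U),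
    (∃ v : V.left, g.left.base v = x) ∧ ∃ n : ℕ, (p ^ n) • (F.obj.map g.op s) = 0

theorem LocPTors.of_sections {p : ℕ} {F : EtCoh.Ab X}
    (hF : ∀ (U : X.Etale) (s : EtCoh.sect F U), ∃ k : ℕ, p ^ k • s = 0) : LocPTors p F := by
  intro U s x
  refine ⟨U, 𝟙 U, ⟨x, rfl⟩, ?_⟩
  obtain ⟨k, hk⟩ := hF U s
  refine ⟨k, ?_⟩
  rw [← map_nsmul, hk, map_zero]

theorem LocPTors.isTorsion {p : ℕ} (hp : 0 < p) {F : EtCoh.Ab X} (hF : LocPTors p F) :
    EtCoh.IsTorsion F := by
  intro U s x
  obtain ⟨V, g, hv, n, hn⟩ := hF U s x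
  refine ⟨V, g, hv, ?_⟩
  rw [isOfFinAddOrder_iff_nsmul_eq_zero]
  exact ⟨p ^ n, pow_pos hp n, hn⟩

theorem LocPTors.stalk {p : ℕ} {F : EtCoh.Ab X} (hF : LocPTors p F)
    {Ω : Type u} [Field Ω] [IsSepClosed Ω] (ξ : Spec (CommRingCat.of Ω) ⟶ X)
    (t : (EtCoh.stalk ξ).obj F) : ∃ n : ℕ, p ^ n • t = 0 := by
  obtain ⟨U, x, s, rfl⟩ := StalkSec.germ_surj ξ F t
  obtain ⟨V, g, ⟨v, hv⟩, n, hs⟩ := hF U s (StalkSec.pt ξ x)
  obtain ⟨y, hy, -⟩ := StalkSec.exists_lift ξ g x v hv
  refine ⟨n, ?_⟩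
  rw [← hy, ← StalkSec.germ_res, ← map_nsmul]
  exact (congrArg _ hs).trans (map_zero _)

theorem LocPTors.of_stalks {p : ℕ} (F : EtCoh.Ab X)
    (h : ∀ x : X, ∃ (Ω : Type u) (_ : Field Ω) (_ : IsSepClosed Ω)
      (ξ : Spec (CommRingCat.of Ω) ⟶ X), ξ default = x ∧
        ∀ t : (EtCoh.stalk ξ).obj F, ∃ n : ℕ, p ^ n • t = 0) : LocPTors p F := by
  intro U s w
  obtain ⟨Ω, _, _, ξ, hξ, ht⟩ := h (U.hom w)
  obtain ⟨x, hx⟩ := StalkSec.exists_pt ξ w hξ.symm
  obtain ⟨n, hns⟩ := ht (StalkSec.germ ξ F U x s)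
  rw [← map_nsmul] at hns
  obtain ⟨V, f, v, hv, h0⟩ := (StalkSec.germ_eq_zero_iff ξ F U x (p ^ n • s)).1 hns
  refine ⟨V, f, ⟨v, hv.trans hx⟩, n, ?_⟩
  rw [← h0, map_nsmul]

theorem LocPTors.pull {p : ℕ} (f : X ⟶ Y) {F : EtCoh.Ab Y} (hF : LocPTors p F) :
    LocPTors p ((EtCoh.pull f).obj F) := by
  refine LocPTors.of_stalks _ fun x => ?_
  obtain ⟨Ω, _, _, ξ, hξ⟩ := Stalks.exists_geom x
  refine ⟨Ω, inferInstance, inferInstance, ξ, hξ, fun t => ?_⟩
  let e := (Etbase.StalkPull.stalkPullIso f ξ).app F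
  obtain ⟨n, hn⟩ := hF.stalk (ξ ≫ f) (e.inv t)
  refine ⟨n, ?_⟩
  have h2 : e.hom.hom (e.inv t) = t := by simp
  rw [← h2, ← map_nsmul, hn, map_zero]

end PTors

end Groth.Agent.Hensel.GeomBar
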