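import Groth.Agent.Hensel.LocalEtale
import Mathlib.RingTheory.Extension.Presentation.Submersive
import Mathlib.RingTheory.Smooth.StandardSmoothCotangent

/-!
# Multivariate Hensel lemma

* `exists_etale_representing`: `n` equations in `n` unknowns with invertible Jacobian are
  represented by an étale algebra.
* `exists_solution_lift_of_etale_lift`: if points of étale algebras lift along `π : T → T'` and
  `ker π` is contained in the Jacobson radical then solutions with invertible Jacobian lift.
* `exists_solution_lift`: multivariate Hensel lemma over a henselian local ring.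
-/

set_option autoImplicit false

universe u w

namespace Groth.Agent.Hensel.JacHensel

open IsLocalRing MvPolynomial

/-- The functor of solutions of `n` polynomial equations in `n` unknowns over `R`, with
invertible Jacobian determinant, is represented by an étale `R`-algebra. -/
theorem exists_etale_representing {R : Type u} [CommRing R] {ι : Type} [Fintype ι]
    [DecidableEq ι] (P : ι → MvPolynomial ι R) :
    ∃ (E : Type u) (_ : CommRing E) (_ : Algebra R E) (_ : Algebra.Etale R E)
      (x : ι → E), (∀ i, aeval x (P i) = 0) ∧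
      IsUnit (Matrix.det (Matrix.of fun i j => aeval x (pderiv i (P j)))) ∧
      ∀ (T : Type w) [CommRing T] [Algebra R T] (a : ι → T), (∀ i, aeval a (P i) = 0) →
        IsUnit (Matrix.det (Matrix.of fun i j => aeval a (pderiv i (P j)))) →
        ∃ φ : E →ₐ[R] T, ∀ i, φ (x i) = a i := by
  let S := MvPolynomial ι R ⧸ Ideal.span (Set.range P)
  let Pr : Algebra.PreSubmersivePresentation R S ι ι :=
    Algebra.PreSubmersivePresentation.naive (v := P) id Function.injective_id
  let Δ : S := Pr.jacobian
  have hΔ : IsUnit (algebraMap S (Localization.Away Δ) Δ) :=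
    IsLocalization.Away.algebraMap_isUnit _
  let P' : Algebra.SubmersivePresentation R (Localization.Away Δ) _ _ :=
    { toPreSubmersivePresentation :=
        .comp (.localizationAway (Localization.Away Δ) Δ) Pr,
      jacobian_isUnit := by simpa [Algebra.smul_def, -isUnit_map_iff, hΔ] }
  have : Algebra.IsStandardSmoothOfRelativeDimension 0 R (Localization.Away Δ) :=
    ⟨_, _, _, inferInstance, P', by
      simp only [Algebra.PreSubmersivePresentation.dimension_comp_eq_dimension_add_dimension, P']
      simp [Algebra.Presentation.dimension]⟩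
  have het : Algebra.Etale R (Localization.Away Δ) := inferInstance
  have hjac : Δ = Ideal.Quotient.mk _ (Matrix.det (Matrix.of fun i j => (pderiv i (P j)))) := by
    change Pr.jacobian = _
    rw [Algebra.PreSubmersivePresentation.jacobian_eq_jacobiMatrix_det]
    have : Pr.jacobiMatrix = Matrix.of fun i j => (pderiv i (P j)) := by
      refine Matrix.ext fun i j => ?_
      exact Algebra.PreSubmersivePresentation.jacobiMatrix_naive (v := P) id
        Function.injective_id _ _ i j
    rw [this]
    rfl
  let x : ι → Localization.Away Δ := fun i => algebraMap S _ (Ideal.Quotient.mk _ (X i))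
  have hx : ∀ p : MvPolynomial ι R, aeval x p = algebraMap S _ (Ideal.Quotient.mk _ p) := by
    intro p
    have : aeval x = (IsScalarTower.toAlgHom R S (Localization.Away Δ)).comp
        (Ideal.Quotient.mkₐ R (Ideal.span (Set.range P))) := by
      ext i
      simp only [aeval_X, x]
      rfl
    rw [this]
    rfl
  refine ⟨Localization.Away Δ, inferInstance, inferInstance, het, x, ?_, ?_, ?_⟩
  · intro i
    rw [hx]
    have : (Ideal.Quotient.mk (Ideal.span (Set.range P))) (P i) = 0 :=
      Ideal.Quotient.eq_zero_iff_mem.mpr (Ideal.subset_span ⟨i, rfl⟩)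
    rw [this, map_zero]
  · have : Matrix.det (Matrix.of fun i j => aeval x (pderiv i (P j))) =
        algebraMap S (Localization.Away Δ) Δ := by
      refine Eq.trans ?_ (congrArg (algebraMap S (Localization.Away Δ)) hjac).symm
      rw [← hx, AlgHom.map_det]
      rfl
    rw [this]
    exact hΔ
  · intro T _ _ a ha hu
    let φ₀ : S →ₐ[R] T := Ideal.Quotient.liftₐ _ (aeval a) (by
      intro p hp
      have : Ideal.span (Set.range P) ≤ RingHom.ker (aeval (R := R) a) := by
        rw [Ideal.span_le]
        rintro _ ⟨i, rfl⟩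
        exact ha i
      exact this hp)
    have hφ₀ : ∀ p, φ₀ (Ideal.Quotient.mk _ p) = aeval a p := fun p => rfl
    have hφΔ : IsUnit (φ₀ Δ) := by
      rw [hjac, hφ₀, AlgHom.map_det]
      exact hu
    refine ⟨IsLocalization.Away.liftAlgHom Δ hφΔ, fun i => ?_⟩
    simp [x, IsLocalization.Away.liftAlgHom, hφ₀]

/-- **Multivariate Hensel lemma** over a henselian local ring: solutions in the residue field of
`n` equations in `n` unknowns with invertible Jacobian determinant lift. -/
theorem exists_solution_lift {R : Type u} [CommRing R] [HenselianLocalRing R] {ι : Type}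
    [Fintype ι] [DecidableEq ι] (P : ι → MvPolynomial ι R) (a₀ : ι → ResidueField R)
    (h0 : ∀ i, aeval a₀ (P i) = 0)
    (h1 : Matrix.det (Matrix.of fun i j => aeval a₀ (pderiv i (P j))) ≠ 0) :
    ∃ a : ι → R, (∀ i, aeval a (P i) = 0) ∧ ∀ i, residue R (a i) = a₀ i := by
  obtain ⟨E, _, _, _, x, hx, -, hE⟩ := exists_etale_representing.{u, u} P
  obtain ⟨φ, hφ⟩ := hE (ResidueField R) a₀ h0 (isUnit_iff_ne_zero.mpr h1)
  obtain ⟨ψ, hψ⟩ := LocalEtale.exists_algHom_of_residueField φ
  refine ⟨fun i => ψ (x i), fun i => ?_, fun i => by rw [hψ, hφ]⟩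
  have : (aeval fun i => ψ (x i)) = ψ.comp (aeval (R := R) x) := by
    ext i
    simp
  rw [this, AlgHom.comp_apply, hx, map_zero]

/-- **Multivariate Hensel lemma** for pairs `(A, I)` such that points of étale algebras lift
(e.g. henselian pairs): approximate solutions of `n` equations in `n` unknowns with Jacobian
determinant invertible modulo `I` lift. -/
theorem exists_solution_lift_of_etale_lift {A : Type u} [CommRing A] (I : Ideal A)
    (hlift : ∀ (A' : Type u) [CommRing A'] [Algebra A A'] [Algebra.Etale A A']
      (σ : A' →ₐ[A] A ⧸ I), ∃ τ : A' →ₐ[A] A, (Ideal.Quotient.mkₐ A I).comp τ = σ)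
    {ι : Type} [Fintype ι] [DecidableEq ι] (P : ι → MvPolynomial ι A) (a₀ : ι → A)
    (h0 : ∀ i, aeval a₀ (P i) ∈ I)
    (h1 : IsUnit (Ideal.Quotient.mk I
      (Matrix.det (Matrix.of fun i j => aeval a₀ (pderiv i (P j)))))) :
    ∃ a : ι → A, (∀ i, aeval a (P i) = 0) ∧ ∀ i, a i - a₀ i ∈ I := by
  obtain ⟨E, _, _, _, x, hx, -, hE⟩ := exists_etale_representing.{u, u} P
  have hmk : ∀ p : MvPolynomial ι A, aeval (fun i => Ideal.Quotient.mk I (a₀ i)) p =
      Ideal.Quotient.mk I (aeval a₀ p) := by
    intro p
    have : (aeval fun i => Ideal.Quotient.mk I (a₀ i)) =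
        (Ideal.Quotient.mkₐ A I).comp (aeval (R := A) a₀) := by
      ext i
      simp
    rw [this]
    rfl
  obtain ⟨φ, hφ⟩ := hE (A ⧸ I) (fun i => Ideal.Quotient.mk I (a₀ i))
    (fun i => by rw [hmk]; exact Ideal.Quotient.eq_zero_iff_mem.mpr (h0 i)) (by
      simp only [hmk]
      rw [RingHom.map_det] at h1
      exact h1)
  obtain ⟨ψ, hψ⟩ := hlift E φ
  refine ⟨fun i => ψ (x i), fun i => ?_, fun i => ?_⟩
  · have : (aeval fun i => ψ (x i)) = ψ.comp (aeval (R := A) x) := by
      ext i
      simp
    rw [this, AlgHom.comp_apply, hx, map_zero]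
  · rw [← Ideal.Quotient.mk_eq_mk_iff_sub_mem, ← hφ i, ← hψ]
    rfl

end Groth.Agent.Hensel.JacHensel
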