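import Mathlib.RingTheory.Etale.Basic
import Mathlib.RingTheory.FinitePresentation
import Mathlib.RingTheory.TensorProduct.Basic

/-!
`R`-algebras `S` such that every map from a finitely presented algebra factors through an étale algebra
(Lazard form of ind-étale): `S` is the colimit of the étale `R`-algebras over `S` (gluing of maps out of
`S`), and `S` is formally étale over `R`.
-/

set_option autoImplicit false

universe u w

open scoped TensorProduct

namespace Groth.Agent.Hensel.LazardGlue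

/-- Lazard form of ind-étale. -/
def Lazard (R S : Type u) [CommRing R] [CommRing S] [Algebra R S] : Prop :=
  ∀ (P : Type u) [CommRing P] [Algebra R P] [Algebra.FinitePresentation R P]
    (φ : P →ₐ[R] S), ∃ (E : Type u) (_ : CommRing E) (_ : Algebra R E) (_ : Algebra.Etale R E)
      (ψ : P →ₐ[R] E) (χ : E →ₐ[R] S), χ.comp ψ = φ

variable {R S : Type u} [CommRing R] [CommRing S] [Algebra R S]

theorem exists_etale_mem (h : Lazard R S) (s : Finset S) :
    ∃ (E : Type u) (_ : CommRing E) (_ : Algebra R E) (_ : Algebra.Etale R E)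
      (χ : E →ₐ[R] S), (s : Set S) ⊆ Set.range χ := by
  obtain ⟨n, f, hf⟩ := s.finite_toSet.fin_param
  let φ : MvPolynomial (Fin n) R →ₐ[R] S := MvPolynomial.aeval f
  obtain ⟨E, _, _, _, ψ, χ, hχ⟩ := h (MvPolynomial (Fin n) R) φ
  refine ⟨E, inferInstance, inferInstance, inferInstance, χ, ?_⟩
  rintro x hx
  rw [← hf.2] at hx
  obtain ⟨i, rfl⟩ := hx
  refine ⟨ψ (MvPolynomial.X i), ?_⟩
  have := congr($hχ (MvPolynomial.X i))
  simpa [φ] using this

/-- An element of an étale algebra dying in `S` dies in some étale algebra. -/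
theorem exists_etale_eq_zero (h : Lazard R S) {A : Type u} [CommRing A] [Algebra R A]
    [Algebra.FinitePresentation R A] (φ : A →ₐ[R] S) (a : A) (ha : φ a = 0) :
    ∃ (E : Type u) (_ : CommRing E) (_ : Algebra R E) (_ : Algebra.Etale R E)
      (ψ : A →ₐ[R] E) (χ : E →ₐ[R] S), χ.comp ψ = φ ∧ ψ a = 0 := by
  have hI : (Ideal.span {a}).FG := ⟨{a}, by simp⟩
  have : Algebra.FinitePresentation R (A ⧸ Ideal.span {a}) := .quotient hI
  let φ' : (A ⧸ Ideal.span {a}) →ₐ[R] S := Ideal.Quotient.liftₐ _ φ (by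
    intro x hx
    obtain ⟨y, rfl⟩ := Ideal.mem_span_singleton.mp hx
    rw [map_mul, ha, zero_mul])
  obtain ⟨E, _, _, _, ψ, χ, hχ⟩ := h _ φ'
  refine ⟨E, inferInstance, inferInstance, inferInstance, ψ.comp (Ideal.Quotient.mkₐ R _), χ,
    ?_, ?_⟩
  · rw [← AlgHom.comp_assoc, hχ]
    rfl
  · rw [AlgHom.comp_apply, Ideal.Quotient.mkₐ_eq_mk,
      Ideal.Quotient.eq_zero_iff_mem.mpr (Ideal.mem_span_singleton_self a), map_zero]

/-- `S` is the colimit of the étale algebras over it: compatible maps glue. -/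
theorem exists_algHom (h : Lazard R S) (B : Type w) [CommRing B] [Algebra R B]
    (L : ∀ (E : Type u) [CommRing E] [Algebra R E] [Algebra.Etale R E], (E →ₐ[R] S) → (E →ₐ[R] B))
    (hL : ∀ (E E' : Type u) [CommRing E] [Algebra R E] [Algebra.Etale R E]
      [CommRing E'] [Algebra R E'] [Algebra.Etale R E'] (χ : E →ₐ[R] S) (χ' : E' →ₐ[R] S)
      (ψ : E →ₐ[R] E'), χ'.comp ψ = χ → (L E' χ').comp ψ = L E χ) :
    ∃ g : S →ₐ[R] B, ∀ (E : Type u) [CommRing E] [Algebra R E] [Algebra.Etale R E] (χ : E →ₐ[R] S),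
      g.comp χ = L E χ := by
  classical
  -- well-definedness
  have hwd : ∀ (E E' : Type u) [CommRing E] [Algebra R E] [Algebra.Etale R E]
      [CommRing E'] [Algebra R E'] [Algebra.Etale R E'] (χ : E →ₐ[R] S) (χ' : E' →ₐ[R] S)
      (e : E) (e' : E'), χ e = χ' e' → L E χ e = L E' χ' e' := by
    intro E E' _ _ _ _ _ _ χ χ' e e' hee
    let θ : E ⊗[R] E' →ₐ[R] S := Algebra.TensorProduct.lift χ χ' (fun _ _ => Commute.all _ _)
    have hθ : ∀ a b, θ (a ⊗ₜ b) = χ a * χ' b := fun a b => by simp [θ]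
    have : Algebra.Etale R (E ⊗[R] E') := Algebra.Etale.comp R E (E ⊗[R] E')
    obtain ⟨F, _, _, _, ψ, χ'', h1, h2⟩ := exists_etale_eq_zero h θ (e ⊗ₜ 1 - 1 ⊗ₜ e') (by
      rw [map_sub, hθ, hθ, map_one, map_one, mul_one, one_mul, hee, sub_self])
    have h3 := hL E F χ χ'' (ψ.comp Algebra.TensorProduct.includeLeft) (by
      rw [← AlgHom.comp_assoc, h1]; ext a; simp [hθ])
    have h4 := hL E' F χ' χ'' (ψ.comp Algebra.TensorProduct.includeRight) (by
      rw [← AlgHom.comp_assoc, h1]; ext a; simp [hθ])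
    rw [← h3, ← h4]
    simp only [AlgHom.comp_apply]
    congr 1
    rw [map_sub, sub_eq_zero] at h2
    exact h2
  have hex : ∀ s : S, ∃ b : B, ∀ (E : Type u) [CommRing E] [Algebra R E] [Algebra.Etale R E]
      (χ : E →ₐ[R] S) (e : E), χ e = s → L E χ e = b := by
    intro s
    obtain ⟨E, _, _, _, χ, hχ⟩ := exists_etale_mem h {s}
    obtain ⟨e, he⟩ := hχ (by simp : s ∈ _)
    exact ⟨L E χ e, fun E' _ _ _ χ' e' he' => hwd E' E χ' χ e' e (he'.trans he.symm)⟩
  choose g hg using hex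
  have hpair : ∀ s t : S, ∃ (E : Type u) (_ : CommRing E) (_ : Algebra R E) (_ : Algebra.Etale R E)
      (χ : E →ₐ[R] S) (a b : E), χ a = s ∧ χ b = t := by
    intro s t
    obtain ⟨E, _, _, _, χ, hχ⟩ := exists_etale_mem h {s, t}
    obtain ⟨a, ha⟩ := hχ (by simp : s ∈ _)
    obtain ⟨b, hb⟩ := hχ (by simp : t ∈ _)
    exact ⟨E, inferInstance, inferInstance, inferInstance, χ, a, b, ha, hb⟩
  refine ⟨{ toFun := g, map_one' := ?_, map_mul' := ?_, map_zero' := ?_, map_add' := ?_,
            commutes' := ?_ }, ?_⟩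
  · obtain ⟨E, _, _, _, χ, a, b, -, -⟩ := hpair 0 0
    rw [← hg 1 E χ 1 (map_one χ), map_one]
  · intro s t
    obtain ⟨E, _, _, _, χ, a, b, ha, hb⟩ := hpair s t
    rw [← hg (s * t) E χ (a * b) (by rw [map_mul, ha, hb]), ← hg s E χ a ha, ← hg t E χ b hb, map_mul]
  · obtain ⟨E, _, _, _, χ, a, b, -, -⟩ := hpair 0 0
    rw [← hg 0 E χ 0 (map_zero χ), map_zero]
  · intro s t
    obtain ⟨E, _, _, _, χ, a, b, ha, hb⟩ := hpair s t
    rw [← hg (s + t) E χ (a + b) (by rw [map_add, ha, hb]), ← hg s E χ a ha, ← hg t E χ b hb, map_add]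
  · intro r
    obtain ⟨E, _, _, _, χ, a, b, -, -⟩ := hpair 0 0
    rw [← hg (algebraMap R S r) E χ (algebraMap R E r) (χ.commutes r), AlgHom.commutes]
  · intro E _ _ _ χ
    ext e
    exact (hg (χ e) E χ e rfl).symm

/-- Two maps out of `S` agreeing on all étale algebras over `S` are equal. -/
theorem algHom_ext (h : Lazard R S) {B : Type w} [CommRing B] [Algebra R B] (f g : S →ₐ[R] B)
    (hfg : ∀ (E : Type u) [CommRing E] [Algebra R E] [Algebra.Etale R E] (χ : E →ₐ[R] S),
      f.comp χ = g.comp χ) : f = g := by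
  ext s
  obtain ⟨E, _, _, _, χ, hχ⟩ := exists_etale_mem h {s}
  obtain ⟨e, rfl⟩ := hχ (by simp : s ∈ _)
  exact congr($(hfg E χ) e)

/-- Lazard-form ind-étale algebras are formally étale. -/
theorem formallyEtale (h : Lazard R S) : Algebra.FormallyEtale R S := by
  rw [Algebra.FormallyEtale.iff_comp_bijective]
  intro B _ _ I hI
  constructor
  · intro f g hfg
    refine algHom_ext h f g fun E _ _ _ χ => ?_
    apply (Algebra.FormallyEtale.comp_bijective R E I hI).1
    simp only [← AlgHom.comp_assoc]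
    exact congrArg (fun k => k.comp χ) hfg
  · intro σ
    have hex : ∀ (E : Type u) [CommRing E] [Algebra R E] [Algebra.Etale R E] (χ : E →ₐ[R] S),
        ∃ l : E →ₐ[R] B, (Ideal.Quotient.mkₐ R I).comp l = σ.comp χ := fun E _ _ _ χ =>
      (Algebra.FormallyEtale.comp_bijective R E I hI).2 (σ.comp χ)
    choose L hLl using hex
    obtain ⟨g, hg⟩ := exists_algHom h B L (by
      intro E E' _ _ _ _ _ _ χ χ' ψ hψ
      apply (Algebra.FormallyEtale.comp_bijective R E I hI).1
      simp only [← AlgHom.comp_assoc]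
      rw [hLl, hLl, AlgHom.comp_assoc, hψ])
    refine ⟨g, ?_⟩
    refine algHom_ext h _ _ fun E _ _ _ χ => ?_
    rw [AlgHom.comp_assoc, hg, hLl]

end Groth.Agent.Hensel.LazardGlue
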