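import Groth.Agent.Hensel.LocalEtale
import Groth.Agent.S0523
import Mathlib.RingTheory.TensorProduct.Quotient

/-!
Unique lifting of maps out of étale algebras along henselian pairs.
-/

set_option autoImplicit false
universe u

namespace Groth.Agent.Hensel.PairLift

open scoped TensorProduct

/-- Existence of lifts: `B` étale over `A`, `C` an `A`-algebra henselian along `J`. -/
theorem exists_algHom_lift {A : Type u} [CommRing A] {B : Type u} [CommRing B] [Algebra A B]
    [Algebra.Etale A B] {C : Type u} [CommRing C] [Algebra A C] (J : Ideal C) [HenselianRing C J]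
    (σ : B →ₐ[A] C ⧸ J) : ∃ f : B →ₐ[A] C, (Ideal.Quotient.mkₐ A J).comp f = σ := by
  let σ' : C ⊗[A] B →ₐ[C] C ⧸ J :=
    Algebra.TensorProduct.lift (Algebra.ofId C (C ⧸ J)) σ (fun _ _ => .all _ _)
  obtain ⟨τ, hτ⟩ := (Groth.Agent.S0523.result C J).mp inferInstance (C ⊗[A] B) σ'
  refine ⟨(τ.restrictScalars A).comp Algebra.TensorProduct.includeRight, ?_⟩
  ext b
  have h1 := DFunLike.congr_fun hτ (1 ⊗ₜ b)
  change Ideal.Quotient.mk J (τ (1 ⊗ₜ b)) = σ' (1 ⊗ₜ b) at h1
  change Ideal.Quotient.mk J (τ (1 ⊗ₜ b)) = σ b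
  rw [h1]
  simp [σ']

/-- Existence and uniqueness of lifts. -/
theorem existsUnique_algHom_lift {A : Type u} [CommRing A] {B : Type u} [CommRing B] [Algebra A B]
    [Algebra.Etale A B] {C : Type u} [CommRing C] [Algebra A C] (J : Ideal C) [HenselianRing C J]
    (σ : B →ₐ[A] C ⧸ J) : ∃! f : B →ₐ[A] C, (Ideal.Quotient.mkₐ A J).comp f = σ := by
  obtain ⟨f, hf⟩ := exists_algHom_lift J σ
  refine ⟨f, hf, fun g hg => ?_⟩
  refine LocalEtale.algHom_eq_of_sub_mem_jacobson J HenselianRing.jac g f fun b => ?_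
  rw [← Ideal.Quotient.eq]
  exact DFunLike.congr_fun (hg.trans hf.symm) b

/-- Full faithfulness of reduction modulo `I` on algebra maps out of an étale algebra `B₁`, with
target any algebra `B₂` which is henselian along `I B₂`. -/
theorem baseChange_quotient_bijective (A : Type u) [CommRing A] (I : Ideal A)
    (B₁ B₂ : Type u) [CommRing B₁] [CommRing B₂] [Algebra A B₁] [Algebra A B₂]
    [Algebra.Etale A B₁] [HenselianRing B₂ (I.map (algebraMap A B₂))] :
    Function.Bijective (fun φ : B₁ →ₐ[A] B₂ =>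
      Algebra.TensorProduct.map (AlgHom.id (A ⧸ I) (A ⧸ I)) φ) := by
  let J : Ideal B₂ := I.map (algebraMap A B₂)
  let e : (B₂ ⧸ J) ≃ₐ[A ⧸ I] (A ⧸ I) ⊗[A] B₂ :=
    Algebra.TensorProduct.quotIdealMapEquivQuotTensor B₂ I
  have he : ∀ b : B₂, e (Ideal.Quotient.mk J b) = 1 ⊗ₜ b := fun b => rfl
  constructor
  · intro φ ψ h
    refine LocalEtale.algHom_eq_of_sub_mem_jacobson J HenselianRing.jac φ ψ fun b => ?_
    have h1 := DFunLike.congr_fun h (1 ⊗ₜ b)
    simp only [Algebra.TensorProduct.map_tmul, AlgHom.coe_id, id_eq] at h1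
    rw [← he, ← he] at h1
    exact Ideal.Quotient.eq.mp (e.injective h1)
  · intro ψ
    let σ : B₁ →ₐ[A] B₂ ⧸ J :=
      ((e.symm.toAlgHom.restrictScalars A).comp (ψ.restrictScalars A)).comp
        (Algebra.TensorProduct.includeRight : B₁ →ₐ[A] (A ⧸ I) ⊗[A] B₁)
    obtain ⟨f, hf⟩ := exists_algHom_lift J σ
    refine ⟨f, ?_⟩
    apply Algebra.TensorProduct.ext
    · ext
    · ext b
      have h1 := DFunLike.congr_fun hf b
      change Ideal.Quotient.mk J (f b) = e.symm (ψ (1 ⊗ₜ b)) at h1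
      change Algebra.TensorProduct.map (AlgHom.id (A ⧸ I) (A ⧸ I)) f (1 ⊗ₜ b) = ψ (1 ⊗ₜ b)
      rw [Algebra.TensorProduct.map_tmul, map_one, ← he, h1, AlgEquiv.apply_symm_apply]

end Groth.Agent.Hensel.PairLift
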