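import Groth.Agent.Hensel.BranchPurity
import Mathlib.RingTheory.ZariskisMainTheorem
import Mathlib.RingTheory.IntegralClosure.GoingDown

/-!
# Going down and heights for quasi-finite local domains over normal domains;
purity of the branch locus for injective quasi-finite local algebras
-/

set_option autoImplicit false

universe u

namespace Groth.Agent.Hensel.QfGoingDown

open Groth.Agent.Pi1A.QfUnramAlg Groth.Agent.Desc.NormalSmooth Groth.Agent.Desc.RegAt

/-- If `B = S_q` with `S` of finite type over `A` and quasi-finite at `q`, then `B` is a
localization of the integral closure of `A` in `B`. -/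
theorem isLocalization_integralClosure {A S : Type*} [CommRing A] [CommRing S] [Algebra A S]
    [Algebra.FiniteType A S] (q : Ideal S) [q.IsPrime] [Algebra.QuasiFiniteAt A q] :
    IsLocalization ((IsUnit.submonoid (Localization.AtPrime q)).comap
      (algebraMap (integralClosure A (Localization.AtPrime q)) (Localization.AtPrime q)))
      (Localization.AtPrime q) := by
  set B := Localization.AtPrime q
  let D := integralClosure A B
  obtain ⟨r, hrq, hr, hm⟩ : ∃ r ∉ q, IsIntegral A r ∧ ∀ x, ∃ m : ℕ, IsIntegral A (r ^ m * x) :=
    Algebra.zariskisMainProperty_iff.mp (Algebra.ZariskisMainProperty.of_finiteType q)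
  have hru : IsUnit (algebraMap S B r) := IsLocalization.map_units B (⟨r, hrq⟩ : q.primeCompl)
  have hint : ∀ s : S, IsIntegral A s → IsIntegral A (algebraMap S B s) := fun s hs =>
    hs.map (IsScalarTower.toAlgHom A S B)
  refine ⟨fun y => y.2, fun b => ?_, fun {x y} h => ⟨1, ?_⟩⟩
  · obtain ⟨⟨s, t⟩, hst⟩ := IsLocalization.surj q.primeCompl b
    obtain ⟨m, hm1⟩ := hm s
    obtain ⟨m', hm2⟩ := hm t
    have h1 : IsIntegral A (r ^ (m + m') * s) := by
      rw [pow_add, mul_comm (r ^ m), mul_assoc]
      exact (hr.pow m').mul hm1
    have h2 : IsIntegral A (r ^ (m + m') * (t : S)) := by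
      rw [pow_add, mul_assoc]
      exact (hr.pow m).mul hm2
    have hu : IsUnit (algebraMap S B (r ^ (m + m') * (t : S))) := by
      rw [map_mul, map_pow]
      exact (hru.pow _).mul (IsLocalization.map_units B t)
    refine ⟨⟨⟨_, hint _ h1⟩, ⟨⟨_, hint _ h2⟩, hu⟩⟩, ?_⟩
    change b * algebraMap S B (r ^ (m + m') * (t : S)) = algebraMap S B (r ^ (m + m') * s)
    rw [map_mul, map_mul, ← hst]
    ring
  · rw [Subtype.ext h]

/-- Quasi-finite local domains over an integrally closed domain satisfy going down. -/
theorem hasGoingDown {A S : Type*} [CommRing A] [IsDomain A] [IsIntegrallyClosed A] [CommRing S]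
    [Algebra A S] [Algebra.FiniteType A S] (q : Ideal S) [q.IsPrime] [Algebra.QuasiFiniteAt A q]
    [IsDomain (Localization.AtPrime q)]
    (hinj : Function.Injective (algebraMap A (Localization.AtPrime q))) :
    Algebra.HasGoingDown A (Localization.AtPrime q) := by
  set B := Localization.AtPrime q
  let D := integralClosure A B
  have hloc := isLocalization_integralClosure (A := A) q
  have hflat : Module.Flat D B := IsLocalization.flat B ((IsUnit.submonoid B).comap
      (algebraMap D B))
  have hfs : FaithfulSMul A D := by
    rw [faithfulSMul_iff_algebraMap_injective]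
    intro x y h
    exact hinj (congrArg (algebraMap D B) h)
  exact Algebra.HasGoingDown.trans A D B

/-- At a quasi-finite point of an algebra dominating a normal domain, heights are preserved. -/
theorem height_eq {A S : Type*} [CommRing A] [IsDomain A] [IsIntegrallyClosed A]
    [IsNoetherianRing A] [CommRing S]
    [Algebra A S] [Algebra.FiniteType A S] (q : Ideal S) [q.IsPrime] [Algebra.QuasiFiniteAt A q]
    [IsDomain (Localization.AtPrime q)]
    (hinj : Function.Injective (algebraMap A (Localization.AtPrime q))) :
    (q.under A).height = q.height := by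
  have hS : IsNoetherianRing S := Algebra.FiniteType.isNoetherianRing A S
  have hgd := hasGoingDown q hinj
  let B := Localization.AtPrime q
  have hBN : IsNoetherianRing B := IsLocalization.isNoetherianRing q.primeCompl _ inferInstance
  have hqf : Algebra.QuasiFinite A B := ‹Algebra.QuasiFiniteAt A q›
  let M := IsLocalRing.maximalIdeal B
  have h1 : M.under S = q := Localization.AtPrime.under_maximalIdeal (I := q)
  have h2 : M.under A = q.under A :=
    (Ideal.under_under (A := A) (B := S) M).symm.trans (congrArg (Ideal.under A) h1)
  have h3 := height_eq_of_quasiFinite (A := A) (B := B) (M.under A) M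
  have h4 : M.height = q.height := by
    rw [← IsLocalization.height_under q.primeCompl, h1]
  rw [← h2, ← h3, h4]

/-- **Purity of the branch locus**, local form: `A` regular local, `B = S_q` a normal local domain
at a quasi-finite point `q` over the closed point, of positive dimension, with `A → B` injective,
unramified (or etale) at the height one primes: then `B` is formally etale over `A`. -/
theorem formallyEtale_of_injective {A S : Type u} [CommRing A] [IsRegularLocalRing A] [CommRing S]
    [Algebra A S] [Algebra.FiniteType A S] (q : Ideal S) [q.IsPrime] [Algebra.QuasiFiniteAt A q]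
    (hnor : NormalAt S q) (hinj : Function.Injective (algebraMap A (Localization.AtPrime q)))
    (h1 : 1 ≤ q.height)
    (hunr : ∀ (q' : Ideal S) [q'.IsPrime], q' ≤ q → q'.height = 1 →
      Algebra.IsUnramifiedAt A q') :
    Algebra.FormallyEtale A (Localization.AtPrime q) := by
  have hdA : IsDomain A := CalgA.RegBasic.isDomain A
  have hicA : IsIntegrallyClosed A := CurvesC.RegNormal.isIntegrallyClosed A
  have := hnor.1
  refine BranchPurity.isEtaleAt_of_height_one q ?_ hnor (height_eq q hinj) h1 hunr
  exact S0564.result A _

/-- Same, with the conditions at the height one primes expressed on `B`. -/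
theorem formallyEtale_of_isLocalization {A S B : Type u} [CommRing A] [IsRegularLocalRing A]
    [CommRing S] [Algebra A S] [Algebra.FiniteType A S] (q : Ideal S) [q.IsPrime]
    [Algebra.QuasiFiniteAt A q] [CommRing B] [Algebra S B] [Algebra A B] [IsScalarTower A S B]
    [IsLocalization.AtPrime B q] [IsDomain B] [IsIntegrallyClosed B]
    (hinj : Function.Injective (algebraMap A B)) (h1 : 1 ≤ ringKrullDim B)
    (hunr : ∀ (P : Ideal B) [P.IsPrime], P.height = 1 →
      Algebra.FormallyUnramified A (Localization.AtPrime P)) :
    Algebra.FormallyEtale A B := by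
  let e : B ≃ₐ[S] Localization.AtPrime q := IsLocalization.algEquiv q.primeCompl _ _
  have hnor : NormalAt S q := ⟨e.symm.toMulEquiv.isDomain _,
    IsIntegrallyClosed.of_equiv (R := B) e.toRingEquiv⟩
  have hinj' : Function.Injective (algebraMap A (Localization.AtPrime q)) := by
    have : (algebraMap A (Localization.AtPrime q)) =
        (e.restrictScalars A).toAlgHom.toRingHom.comp (algebraMap A B) :=
      (e.restrictScalars A).toAlgHom.comp_algebraMap.symm
    rw [this]
    exact e.injective.comp hinj
  have h1' : 1 ≤ q.height := by
    rw [IsLocalization.AtPrime.ringKrullDim_eq_height q B] at h1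
    exact_mod_cast h1
  have key := formallyEtale_of_injective q hnor hinj' h1' (fun q' _ hq' hht => ?_)
  · exact Algebra.FormallyEtale.of_equiv (e.restrictScalars A).symm
  have hdisj : Disjoint (q.primeCompl : Set S) (q' : Set S) :=
    Set.disjoint_left.mpr fun x hx hx' => hx (hq' hx')
  have hprime := IsLocalization.isPrime_of_isPrime_disjoint q.primeCompl B q' ‹_› hdisj
  have hunder := IsLocalization.under_map_of_isPrime_disjoint q.primeCompl B ‹q'.IsPrime› hdisj
  let P := q'.map (algebraMap S B)
  have hP : P.height = 1 := by
    rw [← IsLocalization.height_under q.primeCompl, hunder, hht]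
  have h2 := hunr P hP
  have h3 : IsLocalization.AtPrime (Localization.AtPrime P) (P.under S) :=
    IsLocalization.isLocalization_isLocalization_atPrime_isLocalization q.primeCompl _ P
  have h4 : IsLocalization.AtPrime (Localization.AtPrime P) q' := by
    convert h3
    exact hunder.symm
  let e' : Localization.AtPrime P ≃ₐ[S] Localization.AtPrime q' :=
    IsLocalization.algEquiv q'.primeCompl _ _
  exact Algebra.FormallyUnramified.of_equiv (e'.restrictScalars A)

end Groth.Agent.Hensel.QfGoingDown
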