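import Mathlib.RingTheory.RegularLocalRing.Defs
import Mathlib.RingTheory.Flat.FaithfullyFlat.Algebra
import Mathlib.RingTheory.LocalRing.ResidueField.Basic
import Groth.Agent.Hensel.EtaleNbhd

/-!
Embedding dimension and regularity along flat local homomorphisms `R → S` with `m_R S = m_S`.
-/

set_option autoImplicit false

universe u

open IsLocalRing TensorProduct

namespace Groth.Agent.Hensel.RegularPerm

variable {R S : Type u} [CommRing R] [CommRing S] [Algebra R S]

/-- For a flat algebra `S`, the extension `IS` is `S ⊗ I`. -/
noncomputable def tensorIdealEquiv (S : Type u) [CommRing S] [Algebra R S] [Module.Flat R S] (I : Ideal R) :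
    (S ⊗[R] I) ≃ₗ[S] (I.map (algebraMap R S) : Ideal S) := by
  let f : S ⊗[R] I →ₗ[S] S :=
    (TensorProduct.AlgebraTensorModule.rid R S S).toLinearMap ∘ₗ (Submodule.subtype I).baseChange S
  have hf : Function.Injective f := by
    refine (TensorProduct.AlgebraTensorModule.rid R S S).injective.comp ?_
    exact Module.Flat.lTensor_preserves_injective_linearMap (M := S) (Submodule.subtype I)
      (Submodule.subtype_injective I)
  have hr : LinearMap.range f = (I.map (algebraMap R S) : Ideal S) := by
    apply le_antisymm
    · rintro _ ⟨x, rfl⟩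
      induction x using TensorProduct.induction_on with
      | zero => simp
      | tmul s x =>
        have : f (s ⊗ₜ x) = algebraMap R S x * s := by
          simp [f, Algebra.smul_def]
        rw [this]
        exact Ideal.mul_mem_right _ _ (Ideal.mem_map_of_mem _ x.2)
      | add x y hx hy => rw [map_add]; exact Ideal.add_mem _ hx hy
    · refine Ideal.span_le.mpr ?_
      rintro _ ⟨x, hx, rfl⟩
      refine ⟨1 ⊗ₜ ⟨x, hx⟩, ?_⟩
      simp [f, Algebra.smul_def]
  exact (LinearEquiv.ofInjective f hf).trans (LinearEquiv.ofEq _ _ hr)

/-- The minimal number of generators of the maximal ideal is preserved by a flat local homomorphism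
extending the maximal ideal to the maximal ideal. -/
theorem spanFinrank_maximalIdeal_eq [IsLocalRing R] [IsLocalRing S] [IsLocalHom (algebraMap R S)]
    [Module.Flat R S] (hmax : (maximalIdeal R).map (algebraMap R S) = maximalIdeal S)
    (hfg : (maximalIdeal R).FG) :
    (maximalIdeal S).spanFinrank = (maximalIdeal R).spanFinrank := by
  have hfgS : (maximalIdeal S).FG := by rw [← hmax]; exact Ideal.FG.map hfg _
  rw [← TensorProduct.spanFinrank_top_eq_of_residueField (maximalIdeal S) hfgS,
    ← TensorProduct.spanFinrank_top_eq_of_residueField (maximalIdeal R) hfg,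
    ← Module.finrank_eq_spanFinrank_of_free, ← Module.finrank_eq_spanFinrank_of_free]
  let e1 : (S ⊗[R] (maximalIdeal R)) ≃ₗ[S] maximalIdeal S :=
    (tensorIdealEquiv S (maximalIdeal R)).trans (LinearEquiv.ofEq _ _ hmax)
  let e2 : ResidueField S ⊗[S] (maximalIdeal S) ≃ₗ[ResidueField S]
      ResidueField S ⊗[S] (S ⊗[R] (maximalIdeal R)) := e1.symm.baseChange S (ResidueField S) _ _
  let e3 : ResidueField S ⊗[S] (S ⊗[R] (maximalIdeal R)) ≃ₗ[ResidueField S]
      ResidueField S ⊗[R] (maximalIdeal R) :=
    TensorProduct.AlgebraTensorModule.cancelBaseChange R S (ResidueField S) (ResidueField S) _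
  let e4 : ResidueField S ⊗[ResidueField R] (ResidueField R ⊗[R] (maximalIdeal R)) ≃ₗ[ResidueField S]
      ResidueField S ⊗[R] (maximalIdeal R) :=
    TensorProduct.AlgebraTensorModule.cancelBaseChange R (ResidueField R) (ResidueField S)
      (ResidueField S) _
  rw [((e2.trans e3).trans e4.symm).finrank_eq, Module.finrank_baseChange]

/-- Regularity ascends and descends along flat local homomorphisms of Noetherian local rings of the same
dimension with `m_R S = m_S`. -/
theorem isRegularLocalRing_iff [IsLocalRing R] [IsLocalRing S] [IsNoetherianRing R] [IsNoetherianRing S]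
    [IsLocalHom (algebraMap R S)]
    [Module.Flat R S] (hmax : (maximalIdeal R).map (algebraMap R S) = maximalIdeal S)
    (hdim : ringKrullDim S = ringKrullDim R) : IsRegularLocalRing R ↔ IsRegularLocalRing S := by
  rw [_root_.isRegularLocalRing_iff, _root_.isRegularLocalRing_iff, hdim,
    spanFinrank_maximalIdeal_eq hmax (IsNoetherian.noetherian _)]

/-- Regularity for flat local algebras covered by étale algebras (henselization, strict henselization, ...). -/
theorem isRegularLocalRing_iff_of_isEtaleCovered [IsLocalRing R] [IsLocalRing S] [IsNoetherianRing R]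
    [IsLocalHom (algebraMap R S)] [Module.Flat R S] (h : EtaleNbhd.IsEtaleCovered R S) :
    IsRegularLocalRing R ↔ IsRegularLocalRing S := by
  have : IsNoetherianRing S := EtaleNbhd.isNoetherianRing h
  exact isRegularLocalRing_iff (EtaleNbhd.map_maximalIdeal h) (EtaleNbhd.ringKrullDim_eq h)

end Groth.Agent.Hensel.RegularPerm
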