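import Groth.Agent.S0501
import Mathlib.RingTheory.Etale.Field

/-!
Étale algebras over (strictly) henselian local rings, formulated with algebra maps to the residue
field.
-/

set_option autoImplicit false
universe u

namespace Groth.Agent.Hensel.ResEtale

open IsLocalRing

/-- For `T` a henselian local `R`-algebra and `A` an étale `R`-algebra, every `R`-algebra map from
`A` to the residue field of `T` lifts uniquely to `T`. -/
theorem existsUnique_lift_residue (R : Type u) [CommRing R]
    (T : Type u) [CommRing T] [HenselianLocalRing T] [Algebra R T]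
    (A : Type u) [CommRing A] [Algebra R A] [Algebra.Etale R A]
    (h : A →ₐ[R] ResidueField T) :
    ∃! f : A →ₐ[R] T, ∀ a, residue T (f a) = h a := by
  let q : Ideal A := RingHom.ker h
  have : q.IsPrime := RingHom.ker_isPrime _
  have hq : q.primeCompl ≤ (IsUnit.submonoid (ResidueField T)).comap h.toRingHom := by
    intro x hx
    exact (isUnit_iff_ne_zero.mpr fun h0 => hx h0)
  let τ : q.ResidueField →+* ResidueField T :=
    Ideal.ResidueField.lift q h.toRingHom le_rfl hq
  have hτ' : ∀ a : A, τ (algebraMap A q.ResidueField a) = h a := fun a =>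
    Ideal.ResidueField.lift_algebraMap q h.toRingHom le_rfl hq a
  have hτ : τ.comp (algebraMap R q.ResidueField) = (residue T).comp (algebraMap R T) := by
    ext r
    rw [RingHom.comp_apply, IsScalarTower.algebraMap_apply R A q.ResidueField, hτ', h.commutes]
    rfl
  obtain ⟨f, ⟨hf1, hf2⟩, hf3⟩ := Groth.Agent.S0501.result R T A q τ hτ
  refine ⟨f, fun a => by rw [hf2, hτ'], fun g hg => hf3 g ⟨?_, fun a => by rw [hg, hτ']⟩⟩
  ext a
  rw [Ideal.mem_comap, ← residue_eq_zero_iff]
  change residue T (g a) = 0 ↔ h a = 0
  rw [hg]

/-- A homomorphism from a finite type étale algebra over a separably closed field `K` to a domain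
takes values in (the image of) `K`. -/
theorem mem_range_of_etale_of_isSepClosed (K : Type u) [Field K] [IsSepClosed K]
    (A : Type u) [CommRing A] [Algebra K A] [Algebra.EssFiniteType K A] [Algebra.FormallyEtale K A]
    (L : Type*) [CommRing L] [IsDomain L] [Algebra K L] (h : A →ₐ[K] L) (a : A) :
    ∃ c : K, h a = algebraMap K L c := by
  let p : Ideal A := RingHom.ker h
  have : p.IsPrime := RingHom.ker_isPrime _
  have := Algebra.FormallyUnramified.finite_of_free K A
  have : IsArtinianRing A := isArtinian_of_tower K inferInstance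
  let := Ideal.Quotient.field p
  have : Algebra.IsSeparable K (A ⧸ p) := inferInstance
  obtain ⟨c, hc⟩ := IsSepClosed.algebraMap_surjective K (A ⧸ p) (Ideal.Quotient.mk p a)
  refine ⟨c, ?_⟩
  have h1 : Ideal.Quotient.mk p (algebraMap K A c) = Ideal.Quotient.mk p a := hc
  have h2 : algebraMap K A c - a ∈ p := Ideal.Quotient.eq.mp h1
  have h3 : h (algebraMap K A c - a) = 0 := h2
  rw [map_sub, h.commutes, sub_eq_zero] at h3
  exact h3.symm

end Groth.Agent.Hensel.ResEtale
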