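import Groth.Agent.Desc.NormalSmooth
import Groth.Agent.Desc.RegAt
import Mathlib.AlgebraicGeometry.AffineScheme
import Mathlib.AlgebraicGeometry.Noetherian

/-!
# Normality and regularity of stalks and of localizations of sections over affine opens
-/

set_option autoImplicit false

universe u

namespace Groth.Agent.Hensel.StalkAt

open AlgebraicGeometry Groth.Agent.Desc.NormalSmooth Groth.Agent.Desc.RegAt

/-- Normal stalks give primes at which the ring of sections is normal. -/
theorem normalAt_iff_stalk {X : Scheme.{u}} {U : X.Opens} (hU : IsAffineOpen U) (x : X)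
    (hx : x ∈ U) : NormalAt Γ(X, U) (hU.primeIdealOf ⟨x, hx⟩).asIdeal ↔
      IsDomain (X.presheaf.stalk x) ∧ IsIntegrallyClosed (X.presheaf.stalk x) := by
  let := X.presheaf.algebra_section_stalk (⟨x, hx⟩ : U)
  have := hU.isLocalization_stalk ⟨x, hx⟩
  let e : X.presheaf.stalk x ≃ₐ[Γ(X, U)]
      Localization.AtPrime (hU.primeIdealOf ⟨x, hx⟩).asIdeal :=
    IsLocalization.algEquiv (hU.primeIdealOf ⟨x, hx⟩).asIdeal.primeCompl _ _
  constructor
  · rintro ⟨h1, h2⟩
    exact ⟨e.toMulEquiv.isDomain _, IsIntegrallyClosed.of_equiv (R :=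
      Localization.AtPrime (hU.primeIdealOf ⟨x, hx⟩).asIdeal) e.symm.toRingEquiv⟩
  · rintro ⟨h1, h2⟩
    exact ⟨e.symm.toMulEquiv.isDomain _, IsIntegrallyClosed.of_equiv
      (R := X.presheaf.stalk x) e.toRingEquiv⟩

/-- Regular stalks give primes at which the ring of sections is regular. -/
theorem regAt_iff_stalk {X : Scheme.{u}} {U : X.Opens} (hU : IsAffineOpen U) (x : X)
    (hx : x ∈ U) : RegAt Γ(X, U) (hU.primeIdealOf ⟨x, hx⟩).asIdeal ↔
      IsRegularLocalRing (X.presheaf.stalk x) := by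
  let := X.presheaf.algebra_section_stalk (⟨x, hx⟩ : U)
  have := hU.isLocalization_stalk ⟨x, hx⟩
  let e : X.presheaf.stalk x ≃ₐ[Γ(X, U)]
      Localization.AtPrime (hU.primeIdealOf ⟨x, hx⟩).asIdeal :=
    IsLocalization.algEquiv (hU.primeIdealOf ⟨x, hx⟩).asIdeal.primeCompl _ _
  constructor
  · intro h1
    have : IsRegularLocalRing (Localization.AtPrime (hU.primeIdealOf ⟨x, hx⟩).asIdeal) := h1
    exact IsRegularLocalRing.of_ringEquiv e.symm.toRingEquiv
  · intro h1
    exact IsRegularLocalRing.of_ringEquiv e.toRingEquiv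

end Groth.Agent.Hensel.StalkAt
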