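import Mathlib.RingTheory.Valuation.ValuationRing
import Mathlib.LinearAlgebra.FreeModule.Finite.Basic
import Mathlib.LinearAlgebra.Dimension.Free
import Mathlib.LinearAlgebra.Dimension.Constructions
import Mathlib.RingTheory.LocalRing.Module
import Mathlib.LinearAlgebra.Projection
import Mathlib.Algebra.BigOperators.Fin

/-!
Diagonalization of linear maps between finite free modules over a valuation ring.
-/

set_option autoImplicit false

universe u

namespace Groth.Agent.Hensel.ValDiag

/-- In a valuation ring a nonempty finite family has a member dividing all the others. -/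
theorem exists_dvd_all {A : Type u} [CommRing A] [IsDomain A] [ValuationRing A] {ι : Type*} [Fintype ι]
    [Nonempty ι] (x : ι → A) : ∃ i, ∀ j, x i ∣ x j := by
  classical
  have key : ∀ s : Finset ι, s.Nonempty → ∃ i ∈ s, ∀ j ∈ s, x i ∣ x j := by
    intro s hs
    induction hs using Finset.Nonempty.cons_induction with
    | singleton a => exact ⟨a, by simp, by simp⟩
    | cons a s ha hs ih =>
      obtain ⟨i, hi, hi'⟩ := ih
      rcases ValuationRing.dvd_total (x a) (x i) with h | h
      · exact ⟨a, by simp, fun j hj => by
          rcases Finset.mem_cons.mp hj with rfl | hj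
          · exact dvd_rfl
          · exact h.trans (hi' j hj)⟩
      · exact ⟨i, Finset.mem_cons_of_mem hi, fun j hj => by
          rcases Finset.mem_cons.mp hj with rfl | hj
          · exact h
          · exact hi' j hj⟩
  obtain ⟨i, _, hi⟩ := key Finset.univ Finset.univ_nonempty
  exact ⟨i, fun j => hi j (Finset.mem_univ j)⟩

/-- Diagonalization over a valuation ring. -/
theorem diag {A : Type u} [CommRing A] [IsDomain A] [ValuationRing A] (n : ℕ) :
    ∀ (M N : Type u) [AddCommGroup M] [Module A M] [Module.Free A M] [Module.Finite A M]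
      [AddCommGroup N] [Module A N] [Module.Free A N] [Module.Finite A N] (f : M →ₗ[A] N),
      Module.finrank A M = n →
      ∃ (k : ℕ) (g : Fin k → M) (φ : Fin k → (M →ₗ[A] A)) (e : Fin k → N)
        (ψ : Fin k → (N →ₗ[A] A)) (a : Fin k → A),
        (∀ i j, φ i (g j) = if i = j then 1 else 0) ∧ (∀ i j, ψ i (e j) = if i = j then 1 else 0) ∧
        ∀ m, f m = ∑ i, (a i * φ i m) • e i := by
  classical
  induction n with
  | zero =>
    intro M N _ _ _ _ _ _ _ _ f hn
    have : Subsingleton M := Module.finrank_zero_iff.mp hn
    refine ⟨0, Fin.elim0, Fin.elim0, Fin.elim0, Fin.elim0, Fin.elim0, fun i => i.elim0, fun i => i.elim0,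
      fun m => ?_⟩
    rw [Subsingleton.elim m 0]
    simp
  | succ n ih =>
    intro M N _ _ _ _ _ _ _ _ f hn
    by_cases hf : f = 0
    · refine ⟨0, Fin.elim0, Fin.elim0, Fin.elim0, Fin.elim0, Fin.elim0, fun i => i.elim0,
        fun i => i.elim0, fun m => ?_⟩
      simp [hf]
    let b := Module.Free.chooseBasis A M
    let c := Module.Free.chooseBasis A N
    have hne : Nonempty (Module.Free.ChooseBasisIndex A N × Module.Free.ChooseBasisIndex A M) := by
      by_contra hc
      apply hf
      apply b.ext
      intro j
      apply c.repr.injective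
      ext i
      exact (hc ⟨(i, j)⟩).elim
    obtain ⟨⟨i₀, j₀⟩, h0⟩ := exists_dvd_all (A := A)
      (fun x : Module.Free.ChooseBasisIndex A N × Module.Free.ChooseBasisIndex A M =>
        c.repr (f (b x.2)) x.1)
    let a₀ : A := c.repr (f (b j₀)) i₀
    have h0' : ∀ i j, a₀ ∣ c.repr (f (b j)) i := fun i j => h0 (i, j)
    choose q hq using h0'
    have ha₀ : a₀ ≠ 0 := by
      intro ha
      apply hf
      apply b.ext
      intro j
      apply c.repr.injective
      ext i
      rw [hq i j, ha]
      simp
    let f' : M →ₗ[A] N := b.constr A fun j => ∑ i, q i j • c i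
    have hff' : f = a₀ • f' := by
      apply b.ext
      intro j
      apply c.repr.injective
      ext i
      rw [hq i j]
      simp [f', Finsupp.single_apply]
    let g₀ : M := b j₀
    let e₀ : N := f' g₀
    let ψ₀ : N →ₗ[A] A := c.coord i₀
    have hψ₀ : ψ₀ e₀ = 1 := by
      have h1 : a₀ * ψ₀ e₀ = a₀ * 1 := by
        have : a₀ * ψ₀ e₀ = ψ₀ (f g₀) := by rw [hff']; simp [e₀]
        rw [this, mul_one]
        simp [ψ₀, g₀, a₀]
      exact mul_left_cancel₀ ha₀ h1
    let φ₀ : M →ₗ[A] A := ψ₀.comp f'
    have hφ₀ : φ₀ g₀ = 1 := hψ₀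
    -- the kernels
    let M' := LinearMap.ker φ₀
    let N' := LinearMap.ker ψ₀
    let pM : M →ₗ[A] M' := LinearMap.codRestrict M' (LinearMap.id - φ₀.smulRight g₀) (by
      intro m
      simp [M', hφ₀])
    let pN : N →ₗ[A] N' := LinearMap.codRestrict N' (LinearMap.id - ψ₀.smulRight e₀) (by
      intro m
      simp [N', hψ₀])
    have hpM : ∀ m : M', pM m = m := fun m => by
      ext
      have : φ₀ m = 0 := m.2
      simp [pM, this]
    have hpN : ∀ m : N', pN m = m := fun m => by
      ext
      have : ψ₀ m = 0 := m.2
      simp [pN, this]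
    have hM'proj : Module.Projective A M' :=
      Module.Projective.of_split M'.subtype pM (by ext m; simp [hpM])
    have hN'proj : Module.Projective A N' :=
      Module.Projective.of_split N'.subtype pN (by ext m; simp [hpN])
    have hM'fin : Module.Finite A M' :=
      Module.Finite.of_surjective pM fun m => ⟨m, hpM m⟩
    have hN'fin : Module.Finite A N' :=
      Module.Finite.of_surjective pN fun m => ⟨m, hpN m⟩
    have hM'free : Module.Free A M' := Module.free_of_flat_of_isLocalRing
    have hN'free : Module.Free A N' := Module.free_of_flat_of_isLocalRing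
    let E : M ≃ₗ[A] A × M' :=
      { toFun := fun m => (φ₀ m, pM m)
        map_add' := fun x y => by simp
        map_smul' := fun r x => by simp
        invFun := fun x => x.1 • g₀ + x.2
        left_inv := fun m => by simp [pM]
        right_inv := fun x => by
          have : φ₀ x.2 = 0 := x.2.2
          ext
          · simp [hφ₀, this]
          · simp [pM, hφ₀, this] }
    have hrank : Module.finrank A M' = n := by
      have := E.finrank_eq
      rw [Module.finrank_prod, Module.finrank_self, hn] at this
      omega
    let f'' : M' →ₗ[A] N' := (a₀ • f').restrict (by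
      intro m hm
      have h1 : φ₀ m = 0 := hm
      change ψ₀ ((a₀ • f') m) = 0
      have h2 : ψ₀ (f' m) = 0 := h1
      simp [h2])
    obtain ⟨k, g, φ, e, ψ, a, h1, h2, h3⟩ := ih M' N' f'' hrank
    refine ⟨k + 1, Fin.cons g₀ (fun i => (g i : M)), Fin.cons φ₀ (fun i => (φ i).comp pM),
      Fin.cons e₀ (fun i => (e i : N)), Fin.cons ψ₀ (fun i => (ψ i).comp pN), Fin.cons a₀ a, ?_, ?_, ?_⟩
    · intro i j
      refine Fin.cases ?_ (fun i => ?_) i <;> refine Fin.cases ?_ (fun j => ?_) j
      · simpa using hφ₀
      · have : φ₀ (g j) = 0 := (g j).2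
        simp [this, (Fin.succ_ne_zero j).symm]
      · have : pM g₀ = 0 := by ext; simp [pM, hφ₀]
        simp [this, Fin.succ_ne_zero]
      · simp [hpM, h1]
    · intro i j
      refine Fin.cases ?_ (fun i => ?_) i <;> refine Fin.cases ?_ (fun j => ?_) j
      · simpa using hψ₀
      · have : ψ₀ (e j) = 0 := (e j).2
        simp [this, (Fin.succ_ne_zero j).symm]
      · have : pN e₀ = 0 := by ext; simp [pN, hψ₀]
        simp [this, Fin.succ_ne_zero]
      · simp [hpN, h2]
    · intro m
      rw [Fin.sum_univ_succ]
      simp only [Fin.cons_zero, Fin.cons_succ, LinearMap.comp_apply]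
      have h4 : f (pM m) = ∑ i, (a i * φ i (pM m)) • (e i : N) := by
        have h5 := congrArg (Submodule.subtype N') (h3 (pM m))
        rw [map_sum] at h5
        simp only [map_smul, Submodule.subtype_apply] at h5
        rw [← h5, hff']
        rfl
      have h6 : f m = φ₀ m • f g₀ + f (pM m) := by
        rw [← map_smul, ← map_add]
        congr 1
        simp [pM]
      rw [h6, h4, hff']
      simp only [LinearMap.smul_apply, smul_smul, e₀]
      rw [mul_comm]

end Groth.Agent.Hensel.ValDiag
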