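import Mathlib.RingTheory.AdjoinRoot
import Mathlib.RingTheory.Unramified.LocalStructure
import Mathlib.RingTheory.Etale.StandardEtale
import Mathlib.RingTheory.TensorProduct.Basic
import Mathlib.LinearAlgebra.TensorProduct.Tower
import Groth.Agent.Hensel.ValDiag
import Groth.Agent.Hensel.EtaleNbhd

/-!
Local domains covered by étale algebras over a valuation ring `A`: every nonzero element is a unit times an
element of `A`.
-/

set_option autoImplicit false

universe u

open Polynomial TensorProduct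

namespace Groth.Agent.Hensel.ValEtale

variable {A S : Type u} [CommRing A] [CommRing S] [Algebra A S]

/-- An idempotent-like element of `S ⊗ A[T]/f` splitting off the root `t`. -/
theorem exists_split (f : A[X]) (t : S) (ht : aeval t f = 0) (hu : IsUnit (aeval t (derivative f))) :
    ∃ (lam : S ⊗[A] AdjoinRoot f →ₐ[S] S) (e : S ⊗[A] AdjoinRoot f),
      (∀ s p, lam (s ⊗ₜ AdjoinRoot.mk f p) = s * aeval t p) ∧ lam e = 1 ∧
        ∀ z, z * e = lam z • e := by
  let ev : AdjoinRoot f →ₐ[A] S := AdjoinRoot.liftAlgHom f (Algebra.ofId A S) t (by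
    simpa [aeval_def] using ht)
  have hev : ∀ p, ev (AdjoinRoot.mk f p) = aeval t p := fun p => by
    simp [ev, aeval_def, Algebra.ofId]
  let lam : S ⊗[A] AdjoinRoot f →ₐ[S] S :=
    Algebra.TensorProduct.lift (AlgHom.id S S) ev (fun _ _ => Commute.all _ _)
  have hlam : ∀ s c, lam (s ⊗ₜ c) = s * ev c := fun s c => by simp [lam]
  let T : S ⊗[A] AdjoinRoot f := 1 ⊗ₜ AdjoinRoot.root f
  have hlamT : lam T = t := by
    have : AdjoinRoot.root f = AdjoinRoot.mk f X := (AdjoinRoot.mk_X).symm
    simp only [T, hlam, one_mul, this, hev, aeval_X]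
  -- factor `f` over `S`
  let fS : S[X] := f.map (algebraMap A S)
  have hroot : fS.IsRoot t := by
    simpa [fS, IsRoot.def, eval_map_algebraMap] using ht
  obtain ⟨h, hh⟩ := dvd_iff_isRoot.mpr hroot
  have hder : h.eval t = aeval t (derivative f) := by
    have h1 : (derivative fS).eval t = h.eval t := by
      rw [hh, derivative_mul]
      simp
    rw [← h1]
    simp [fS, derivative_map, eval_map_algebraMap]
  have huh : IsUnit (h.eval t) := by rw [hder]; exact hu
  obtain ⟨w, hw⟩ := huh
  let e : S ⊗[A] AdjoinRoot f := ((w⁻¹ : Sˣ) : S) • aeval T h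
  have hlame : lam e = 1 := by
    simp only [e, map_smul, smul_eq_mul]
    rw [← Polynomial.aeval_algHom_apply, hlamT, Polynomial.coe_aeval_eq_eval, ← hw]
    simp
  have hTe : (T - algebraMap S _ t) * aeval T h = 0 := by
    have h1 : aeval T fS = 0 := by
      have h2 : aeval T fS = (1 : S) ⊗ₜ[A] (aeval (AdjoinRoot.root f) f) := by
        have h3 : (Algebra.TensorProduct.includeRight : AdjoinRoot f →ₐ[A] S ⊗[A] AdjoinRoot f)
            (aeval (AdjoinRoot.root f) f) = aeval T f := by
          rw [← Polynomial.aeval_algHom_apply]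
          rfl
        have h4 : aeval T fS = aeval T f := by
          simp [fS, Polynomial.aeval_map_algebraMap]
        rw [h4, ← h3]
        rfl
      rw [h2]
      have h5 : aeval (AdjoinRoot.root f) f = 0 := by simp
      rw [h5, tmul_zero]
    have h6 := congrArg (aeval T) hh
    rw [h1, map_mul] at h6
    simp only [map_sub, aeval_X, aeval_C] at h6
    exact h6.symm
  refine ⟨lam, e, fun s p => by rw [hlam, hev], hlame, ?_⟩
  -- the set of good `z` is a subalgebra
  let B : Subalgebra S (S ⊗[A] AdjoinRoot f) :=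
    { carrier := {z | z * e = lam z • e}
      mul_mem' := by
        intro a b ha hb
        change a * b * e = lam (a * b) • e
        have ha' : a * e = lam a • e := ha
        have hb' : b * e = lam b • e := hb
        rw [mul_assoc, hb', mul_smul_comm, ha', smul_smul, map_mul, mul_comm]
      add_mem' := by
        intro a b ha hb
        change (a + b) * e = lam (a + b) • e
        have ha' : a * e = lam a • e := ha
        have hb' : b * e = lam b • e := hb
        rw [add_mul, ha', hb', map_add, add_smul]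
      algebraMap_mem' := by
        intro r
        change algebraMap S _ r * e = lam (algebraMap S _ r) • e
        rw [lam.commutes, Algebra.algebraMap_self_apply, Algebra.smul_def] }
  have hTB : T ∈ B := by
    change T * e = lam T • e
    have : (T - algebraMap S _ t) * e = 0 := by
      simp only [e, mul_smul_comm, hTe, smul_zero]
    rw [sub_mul, sub_eq_zero] at this
    rw [this, hlamT, Algebra.smul_def]
  have hall : ∀ z : S ⊗[A] AdjoinRoot f, z ∈ B := by
    intro z
    induction z using TensorProduct.induction_on with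
    | zero => exact B.zero_mem
    | add x y hx hy => exact B.add_mem hx hy
    | tmul s c =>
      obtain ⟨p, rfl⟩ := AdjoinRoot.mk_surjective c
      have h1 : s ⊗ₜ[A] AdjoinRoot.mk f p = s • aeval T p := by
        have h3 : (Algebra.TensorProduct.includeRight : AdjoinRoot f →ₐ[A] S ⊗[A] AdjoinRoot f)
            (aeval (AdjoinRoot.root f) p) = aeval T p := by
          rw [← Polynomial.aeval_algHom_apply]
          rfl
        rw [← h3, AdjoinRoot.aeval_eq]
        simp [TensorProduct.smul_tmul']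
      rw [h1]
      refine B.smul_mem ?_ s
      have : aeval T p ∈ (B.restrictScalars A) :=
        Polynomial.aeval_mem_adjoin_singleton A T |> fun h =>
          (Algebra.adjoin_le (by simpa using hTB) : Algebra.adjoin A {T} ≤ B.restrictScalars A) h
      exact this
  exact fun z => hall z

/-- If `t ∈ S` is a simple root of a monic polynomial over the valuation ring `A`, `S` a local domain, then
every nonzero element of `A[t]` is a unit of `S` times an element of `A`. -/
theorem exists_unit_mul [IsDomain A] [ValuationRing A] [IsDomain S] [IsLocalRing S]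
    (f : A[X]) (hf : f.Monic) (t : S) (ht : aeval t f = 0) (hu : IsUnit (aeval t (derivative f)))
    (p : A[X]) (hp : aeval t p ≠ 0) : ∃ (a : A) (u : Sˣ), aeval t p = u * algebraMap A S a := by
  classical
  obtain ⟨lam, e, hlam, hlame, hze⟩ := exists_split f t ht hu
  have hfree := hf.free_adjoinRoot
  have hfin := hf.finite_adjoinRoot
  let x : AdjoinRoot f := AdjoinRoot.mk f p
  obtain ⟨k, g, φ, e', ψ, a, h1, h2, h3⟩ := ValDiag.diag (A := A) _ (AdjoinRoot f) (AdjoinRoot f)
    (LinearMap.mulLeft A x) rfl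
  let Φ : Fin k → (S ⊗[A] AdjoinRoot f →ₗ[S] S) := fun i =>
    (TensorProduct.AlgebraTensorModule.rid A S S).toLinearMap ∘ₗ (φ i).baseChange S
  let Ψ : Fin k → (S ⊗[A] AdjoinRoot f →ₗ[S] S) := fun i =>
    (TensorProduct.AlgebraTensorModule.rid A S S).toLinearMap ∘ₗ (ψ i).baseChange S
  have hΦ : ∀ i s c, Φ i (s ⊗ₜ c) = φ i c • s := fun i s c => by simp [Φ]
  have hΨ : ∀ i s c, Ψ i (s ⊗ₜ c) = ψ i c • s := fun i s c => by simp [Ψ]
  have hx : ∀ z : S ⊗[A] AdjoinRoot f, (1 ⊗ₜ x) * z = ∑ i, (algebraMap A S (a i) * Φ i z) • (1 ⊗ₜ e' i) := by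
    intro z
    induction z using TensorProduct.induction_on with
    | zero => simp
    | add x y hx hy =>
      rw [mul_add, hx, hy, ← Finset.sum_add_distrib]
      refine Finset.sum_congr rfl fun i _ => ?_
      rw [map_add, mul_add, add_smul]
    | tmul s c =>
      have h4 : x * c = ∑ i, (a i * φ i c) • e' i := h3 c
      rw [Algebra.TensorProduct.tmul_mul_tmul, one_mul, h4, TensorProduct.tmul_sum]
      refine Finset.sum_congr rfl fun i _ => ?_
      rw [hΦ, TensorProduct.smul_tmul', smul_eq_mul, mul_one, ← TensorProduct.smul_tmul,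
        Algebra.smul_def, Algebra.smul_def, map_mul]
      ring_nf
  let y : S := aeval t p
  have hy : lam (1 ⊗ₜ x) = y := by
    change lam (1 ⊗ₜ AdjoinRoot.mk f p) = _
    rw [hlam, one_mul]
  -- (i)
  have e1 : y = ∑ i, algebraMap A S (a i) * Φ i e * lam (1 ⊗ₜ e' i) := by
    have h5 := congrArg lam (hx e)
    rw [map_mul, hy, hlame, mul_one, map_sum] at h5
    rw [h5]
    refine Finset.sum_congr rfl fun i _ => ?_
    rw [map_smul, smul_eq_mul]
  -- (ii)
  have e2 : ∀ i, algebraMap A S (a i) * lam (1 ⊗ₜ e' i) = y * lam (1 ⊗ₜ g i) := by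
    intro i
    rw [← hy, ← map_mul, hx, map_sum, Finset.sum_eq_single i]
    · rw [map_smul, smul_eq_mul, hΦ, h1, if_pos rfl, one_smul, mul_one]
    · intro j _ hj
      rw [hΦ, h1, if_neg hj, zero_smul, mul_zero, zero_smul, map_zero]
    · intro hi; exact (hi (Finset.mem_univ i)).elim
  -- (iii)
  have e3 : ∀ i, algebraMap A S (a i) * Φ i e = y * Ψ i e := by
    intro i
    have h6 : Ψ i ((1 ⊗ₜ x) * e) = algebraMap A S (a i) * Φ i e := by
      rw [hx, map_sum, Finset.sum_eq_single i]
      · rw [map_smul, smul_eq_mul, hΨ, h2, if_pos rfl, one_smul, mul_one]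
      · intro j _ hj
        rw [map_smul, hΨ, h2, if_neg (Ne.symm hj), zero_smul, smul_zero]
      · intro hi; exact (hi (Finset.mem_univ i)).elim
    rw [← h6, hze, map_smul, hy, smul_eq_mul]
  -- (iv)
  have e4 : (1 : S) = ∑ i, Ψ i e * lam (1 ⊗ₜ e' i) := by
    have h7 : y * 1 = y * ∑ i, Ψ i e * lam (1 ⊗ₜ e' i) := by
      rw [mul_one, Finset.mul_sum]
      conv_lhs => rw [e1]
      refine Finset.sum_congr rfl fun i _ => ?_
      rw [e3, mul_assoc]
    exact mul_left_cancel₀ hp h7
  obtain ⟨i, hi⟩ : ∃ i, IsUnit (Ψ i e * lam (1 ⊗ₜ e' i)) := by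
    by_contra hc
    push Not at hc
    have : (1 : S) ∈ IsLocalRing.maximalIdeal S := by
      rw [e4]
      exact Ideal.sum_mem _ fun i _ => (IsLocalRing.mem_maximalIdeal _).mpr (hc i)
    exact (IsLocalRing.mem_maximalIdeal _).mp this isUnit_one
  obtain ⟨hr, hl⟩ := IsUnit.mul_iff.mp hi
  obtain ⟨r, hr⟩ := hr
  obtain ⟨l, hl⟩ := hl
  have e5 := e2 i
  have e6 := e3 i
  rw [← hl] at e5
  rw [← hr] at e6
  -- `a = y w'`, `y = a w`
  have e7 : algebraMap A S (a i) = y * (lam (1 ⊗ₜ g i) * (l⁻¹ : Sˣ)) := by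
    rw [← mul_assoc, ← e5, mul_assoc, Units.mul_inv, mul_one]
  have e8 : y = algebraMap A S (a i) * (Φ i e * (r⁻¹ : Sˣ)) := by
    rw [← mul_assoc, e6, mul_assoc, Units.mul_inv, mul_one]
  have e9 : (lam (1 ⊗ₜ g i) * (l⁻¹ : Sˣ)) * (Φ i e * (r⁻¹ : Sˣ)) = 1 := by
    have : y * 1 = y * ((lam (1 ⊗ₜ g i) * (l⁻¹ : Sˣ)) * (Φ i e * (r⁻¹ : Sˣ))) := by
      rw [← mul_assoc, ← e7, ← e8, mul_one]
    exact (mul_left_cancel₀ hp this).symm
  refine ⟨a i, ⟨Φ i e * (r⁻¹ : Sˣ), lam (1 ⊗ₜ g i) * (l⁻¹ : Sˣ), by rw [mul_comm]; exact e9, e9⟩, ?_⟩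
  rw [mul_comm]
  exact e8

/-- Every nonzero element of a local domain covered by étale algebras over a valuation ring `A` is a unit
times an element of `A`. -/
theorem exists_unit_mul_of_isEtaleCovered [IsDomain A] [ValuationRing A] [IsDomain S] [IsLocalRing S]
    (h : EtaleNbhd.IsEtaleCovered A S) (s : S) (hs : s ≠ 0) :
    ∃ (a : A) (u : Sˣ), s = u * algebraMap A S a := by
  obtain ⟨E, _, _, _, χ, hχ⟩ := h {s}
  obtain ⟨ε, rfl⟩ := hχ (by simp : s ∈ _)
  let Q : Ideal E := (IsLocalRing.maximalIdeal S).comap χ.toRingHom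
  have hQ : Q.IsPrime := Ideal.IsPrime.comap _
  obtain ⟨g, hgQ, hg⟩ := Algebra.IsEtaleAt.exists_isStandardEtale (R := A) Q
  have hχg : IsUnit (χ g) := by
    by_contra hc
    exact hgQ ((IsLocalRing.mem_maximalIdeal _).mpr hc)
  let χ' : Localization.Away g →ₐ[A] S :=
    IsLocalization.liftAlgHom (M := Submonoid.powers g) (f := χ) (by
      rintro ⟨_, n, rfl⟩
      simpa using hχg.pow n)
  have hχ' : ∀ a, χ' (algebraMap E _ a) = χ a := fun a => by
    simp [χ', IsLocalization.liftAlgHom]
  obtain ⟨⟨P⟩⟩ := hg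
  obtain ⟨p, n, hpn⟩ := P.exists_mul_aeval_x_g_pow_eq_aeval_x (algebraMap E _ ε)
  have hx : P.HasMap (χ' P.x) := P.hasMap.map χ'
  have h1 := congrArg χ' hpn
  rw [map_mul, hχ', map_pow, ← Polynomial.aeval_algHom_apply, ← Polynomial.aeval_algHom_apply] at h1
  have hu : IsUnit (aeval (χ' P.x) P.g ^ n) := hx.2.pow n
  have h2 : aeval (χ' P.x) p ≠ 0 := by
    rw [← h1]
    exact mul_ne_zero hs hu.ne_zero
  obtain ⟨a, u, hau⟩ := exists_unit_mul P.f P.monic_f (χ' P.x) hx.1 hx.isUnit_derivative_f p h2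
  obtain ⟨v, hv⟩ := hu
  refine ⟨a, v⁻¹ * u, ?_⟩
  rw [Units.val_mul, mul_assoc, ← hau, ← h1, ← hv, mul_comm, mul_assoc, Units.mul_inv, mul_one]

/-- Such a ring is a valuation ring. -/
theorem valuationRing_of_isEtaleCovered [IsDomain A] [ValuationRing A] [IsDomain S] [IsLocalRing S]
    (h : EtaleNbhd.IsEtaleCovered A S) : ValuationRing S := by
  rw [ValuationRing.iff_dvd_total]
  refine ⟨fun s s' => ?_⟩
  by_cases hs : s = 0
  · right; rw [hs]; exact dvd_zero _
  by_cases hs' : s' = 0
  · left; rw [hs']; exact dvd_zero _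
  obtain ⟨a, u, rfl⟩ := exists_unit_mul_of_isEtaleCovered h s hs
  obtain ⟨a', u', rfl⟩ := exists_unit_mul_of_isEtaleCovered h s' hs'
  rcases ValuationRing.dvd_total a a' with hd | hd
  · left
    exact (Units.mul_left_dvd.mpr (map_dvd _ hd)).trans (Dvd.intro_left _ rfl)
  · right
    exact (Units.mul_left_dvd.mpr (map_dvd _ hd)).trans (Dvd.intro_left _ rfl)

end Groth.Agent.Hensel.ValEtale
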